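import Cfsg.Agent.H59.Pump
import Cfsg.Agent.H46.LBalance
import Cfsg.Agent.H46.ZS
import Cfsg.Agent.H1.UniqueSub
import Cfsg.Agent.H70.Kieler
import Cfsg.Agent.H22.QuatPerfect

/-! Intrinsic 2-components with a unique involution: quaternion Sylow subgroups. -/

set_option autoImplicit false
set_option linter.unusedSectionVars false

namespace Cfsg.Agent.Q54

open Subgroup H44 H59
open H42 (SylIn)
open scoped commutatorElement

universe u

variable {G : Type u} [Group G] [Finite G]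

instance fact_two : Fact (Nat.Prime 2) := ⟨Nat.prime_two⟩

/-- `J` is a 2-component of `C(z)` and `z` is its unique involution -/
structure Om (z : G) (J : Subgroup G) : Prop where
  sq : z * z = 1
  ne : z ≠ 1
  mem : z ∈ J
  uq : ∀ s ∈ J, s * s = 1 → s = 1 ∨ s = z
  pc : PComp 2 (C1 z) J

/-- generators of a generalised quaternion group -/
structure GQ (Q : Subgroup G) (z a : G) : Prop where
  ha : a ∈ Q
  ex : ∃ x ∈ Q, x ∉ zpowers a
  inv : ∀ s ∈ Q, s ∉ zpowers a → ∀ b ∈ zpowers a, s * b * s⁻¹ = b⁻¹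
  sq : ∀ s ∈ Q, s ∉ zpowers a → s * s = z
  mul : ∀ s ∈ Q, ∀ s' ∈ Q, s ∉ zpowers a → s' ∉ zpowers a → s * s' ∈ zpowers a
  four : ∃ i ∈ zpowers a, i * i = z

theorem inv_eq {x : G} (h : x * x = 1) : x⁻¹ = x := inv_eq_of_mul_eq_one_right h

theorem ord2 {x : G} (h2 : x * x = 1) (h1 : x ≠ 1) : orderOf x = 2 :=
  orderOf_eq_prime (by rw [sq, h2]) h1

theorem isP {x : G} {k : ℕ} (h : x ^ 2 ^ k = 1) : IsPGroup 2 (zpowers x) :=
  H21.isPGroup_zpowers_of_pow_eq_one h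

theorem isP2 {x : G} (h : x * x = 1) : IsPGroup 2 (zpowers x) :=
  isP (k := 1) (by rw [pow_one, sq, h])

theorem two_of_mem {R : Subgroup G} (hR : IsPGroup 2 R) {x : G} (h : x ∈ R) : ∃ k, x ^ 2 ^ k = 1 := by
  obtain ⟨k, hk⟩ := hR ⟨x, h⟩
  exact ⟨k, congrArg Subtype.val hk⟩

theorem odd_of_mem {Y : Subgroup G} {x : G} (h : x ∈ Oppof 2 Y) : Odd (orderOf x) :=
  (H46.odd_card_Oppof Y).of_dvd_nat (Subgroup.orderOf_dvd_natCard _ h)

theorem eq_one {R Y : Subgroup G} (hR : IsPGroup 2 R) {x : G} (h : x ∈ R) (ho : x ∈ Oppof 2 Y) :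
    x = 1 := by
  obtain ⟨k, hk⟩ := two_of_mem hR h
  exact orderOf_eq_one_iff.1 ((Nat.coprime_self _).1 (Nat.Coprime.coprime_dvd_right
    (orderOf_dvd_of_pow_eq_one hk) ((odd_of_mem ho).coprime_two_right.pow_right k)))

theorem zp_comm {a b c : G} (hb : b ∈ zpowers a) (hc : c ∈ zpowers a) : b * c = c * b := by
  obtain ⟨k, rfl⟩ := hb
  obtain ⟨l, rfl⟩ := hc
  exact zpow_mul_comm a k l

theorem cj_C1 (g z : G) : cj g (C1 z) = C1 (g * z * g⁻¹) := by
  ext x
  rw [mem_cj, mem_C1, mem_C1]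
  exact ⟨fun e => by
    calc x * (g * z * g⁻¹) = g * (g⁻¹ * x * g * z) * g⁻¹ := by group
      _ = _ := by rw [e]; group, fun e => by
    calc g⁻¹ * x * g * z = g⁻¹ * (x * (g * z * g⁻¹)) * g := by group
      _ = _ := by rw [e]; group⟩

theorem conj_eq {g x : G} (h : g * x = x * g) : g * x * g⁻¹ = x := by rw [h, mul_inv_cancel_right]

/-- a 2-group fixes a point modulo any subgroup -/
theorem fixmod {R Q Z : Subgroup G} (hR : IsPGroup 2 R) (hQ : Q ≤ R) {s u : G} (hs : s ∈ R)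
    (hn : s ∈ normalizer (Q : Set G)) (hu : u ∈ Q) (hu' : u ∉ Z) :
    ∃ v ∈ Q, v ∉ Z ∧ s * v * s⁻¹ * v⁻¹ ∈ Z := by
  by_contra hc
  push Not at hc
  obtain ⟨n, hn'⟩ := (isNilpotent_iff_lowerCentralSeries R).1 hR.isNilpotent
  have key : ∀ m, ∃ v ∈ Q, v ∉ Z ∧ v ∈ R.lowerCentralSeries m := fun m => by
    induction m with
    | zero => exact ⟨u, hu, hu', hQ hu⟩
    | succ m ih =>
      obtain ⟨v, h1, h2, h3⟩ := ih
      refine ⟨_, mul_mem ((mem_normalizer_iff.1 hn v).1 h1) (inv_mem h1), hc v h1 h2, ?_⟩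
      rw [Subgroup.lowerCentralSeries_succ, Subgroup.commutator_comm]
      exact commutator_mem_commutator hs h3
  obtain ⟨v, -, h2, h3⟩ := key n
  rw [hn', mem_bot] at h3
  exact h2 (h3 ▸ one_mem Z)

/-- transfer: an element of order four is conjugate into a subgroup of index two -/
theorem conj_into {X : Type*} [Group X] [Finite X] (hX : commutator X = ⊤) {S A : Subgroup X}
    (hS : ¬ 2 ∣ S.index) (hA : ∀ s ∈ S, ∀ s' ∈ S, s ∉ A → s' ∉ A → s * s' ∈ A) {z u : X}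
    (hz : ∀ g, g⁻¹ * z * g = z) (zA : z ∈ A) (hu : u * u = z) : ∃ g, g⁻¹ * u * g ∈ A := by
  classical
  by_contra hc
  push Not at hc
  let φ : S →* ℤˣ := MonoidHom.mk' (fun s => if (s : X) ∈ A then 1 else -1) fun s s' => by
    by_cases h : (s : X) ∈ A <;> by_cases h' : (s' : X) ∈ A
    · simp [h, h', mul_mem]
    · simp [h, h', (mul_mem_cancel_left h)]
    · simp [h, h', (mul_mem_cancel_right h')]
    · simp [h, h', hA s s.2 s' s'.2 h h']
  have : Fintype (Quotient (MulAction.orbitRel (zpowers u) (X ⧸ S))) := Fintype.ofFinite _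
  have h1 : MonoidHom.transfer φ u = 1 := by
    have : commutator X ≤ (MonoidHom.transfer φ).ker := Abelianization.commutator_subset_ker _
    exact this (hX ▸ mem_top u)
  have key : ∀ (n : ℕ) (g : X) (h : g⁻¹ * u ^ n * g ∈ S), φ ⟨_, h⟩ = (-1) ^ n := fun n g h => by
    have e : ∀ m : ℕ, g⁻¹ * u ^ (2 * m) * g ∈ A := fun m => by
      rw [pow_mul, sq, hu, show g⁻¹ * z ^ m * g = (g⁻¹ * z * g⁻¹⁻¹) ^ m by rw [conj_pow, inv_inv],
        inv_inv, hz]
      exact pow_mem zA m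
    change (if g⁻¹ * u ^ n * g ∈ A then (1 : ℤˣ) else -1) = _
    rcases Nat.even_or_odd' n with ⟨m, rfl | rfl⟩
    · rw [if_pos (e m), pow_mul]; simp
    · rw [if_neg, pow_succ, pow_mul]
      · simp
      · rw [show g⁻¹ * u ^ (2 * m + 1) * g = g⁻¹ * u ^ (2 * m) * g * (g⁻¹ * u * g) by group,
          mul_mem_cancel_left (e m)]
        exact hc g
  rw [MonoidHom.transfer_eq_prod_quotient_orbitRel_zpowers_quot] at h1
  simp only [key] at h1
  rw [Finset.prod_pow_eq_pow_sum, ← index_eq_sum_minimalPeriod,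
    (Nat.odd_iff.2 (by omega)).neg_one_pow] at h1
  exact absurd h1 (by decide)

variable {z a : G} {J Q R : Subgroup G}

namespace Om

theorem le (h : Om z J) : J ≤ C1 z := h.pc.le

theorem cm (h : Om z J) {x : G} (hx : x ∈ J) : x * z = z * x := mem_C1.1 (h.le hx)

theorem conj (h : Om z J) (g : G) : Om (g * z * g⁻¹) (cj g J) := by
  refine ⟨H42.conj_mul_self h.sq g, fun e => h.ne (by simpa using e), conj_mem_cj h.mem,
    ?_, cj_C1 g z ▸ h.pc.map_inj _ (MulAut.conj g).injective⟩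
  rintro _ ⟨s, hs, rfl⟩ e
  rw [← map_mul] at e
  rcases h.uq s hs ((MulAut.conj g).injective (e.trans (map_one _).symm)) with rfl | rfl
  exacts [.inl (map_one _), .inr rfl]

theorem conj' (h : Om z J) {g : G} (hg : g * z = z * g) : Om z (cj g J) := by
  have := h.conj g
  rwa [conj_eq hg] at this

theorem syl (h : Om z J) (hR : SylIn 2 R (C1 z)) : SylIn 2 (R ⊓ J) J := by
  have := (hR.inf_normal (Lof_le (p := 2) _) (le_normalizer_Lof _)).inf_normal h.pc.le_Lof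
    h.pc.Lof_le_normalizer
  rwa [inf_assoc, inf_eq_right.2 h.pc.le_Lof] at this

theorem mem_syl (h : Om z J) (hQ : SylIn 2 Q J) : z ∈ Q := by
  have := hQ.eq_of_le (R := zpowers z ⊔ Q) ((isP2 h.sq).to_sup_of_normal_left' hQ.isP
    (hQ.le.trans (h.le.trans (by
      rw [C1, ← centralizer_zpowers_eq]; exact centralizer_le_normalizer _))))
    (sup_le (zpowers_le.2 h.mem) hQ.le) le_sup_right
  exact this ▸ mem_sup_left (mem_zpowers z)

theorem perf (h : Om z J) : commutator J = ⊤ := by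
  apply map_injective J.subtype_injective
  rw [commutator_def, map_commutator, ← MonoidHom.range_eq_map, range_subtype, h.pc.pqs.perfect]

theorem gq (h : Om z J) (hQ : SylIn 2 Q J) : ∃ a, GQ Q z a := by
  have u2 : ∀ x : G, x ∈ Q → orderOf x = 2 → x = z := fun x hx e =>
    (h.uq x (hQ.le hx) (H42.mul_self_of_orderOf_two e)).resolve_left fun k => by simp [k] at e
  rcases H1.cyclic_or_quaternion_gens hQ.isP fun x y hx hy => Subtype.ext
    ((u2 x x.2 (by rwa [orderOf_coe])).trans (u2 y y.2 (by rwa [orderOf_coe])).symm) with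
    hc | ⟨n, a, g, h1, h2, h3, h4⟩
  · exact absurd ((subgroupOfEquivOfLe hQ.le).isCyclic.2 hc) (H22.not_isCyclic_sylow_two
      ⟨h.perf⟩ (even_iff_two_dvd.2 h.pc.pqs.dvd_card)
      ((hQ.isP.comap_subtype (K := J)).toSylow hQ.ndvd))
  have o1 : orderOf (a : G) = 2 * 2 ^ (n + 1) := by rwa [orderOf_coe]
  have e2 : (g : G) * g = (a : G) ^ 2 ^ (n + 1) := congrArg Subtype.val h2
  have e3 : (g : G) * a * (g : G)⁻¹ = (a : G)⁻¹ := congrArg Subtype.val h3
  have ez : (a : G) ^ 2 ^ (n + 1) = z := u2 _ (pow_mem a.2 _) (by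
    rw [orderOf_pow' _ (by positivity), o1, Nat.gcd_eq_right (dvd_mul_left _ _),
      Nat.mul_div_cancel _ (by positivity)])
  have e4 : ∀ s ∈ Q, s ∉ zpowers (a : G) → ∃ c ∈ zpowers (a : G), s = g * c := fun s hs hs' => by
    rcases h4 ⟨s, hs⟩ with ⟨k, e⟩ | ⟨k, e⟩
    · exact absurd ⟨k, by simpa using congrArg Subtype.val e⟩ hs'
    · exact ⟨_, ⟨k, by simpa using congrArg Subtype.val e⟩, (mul_inv_cancel_left _ _).symm⟩
  have e5 : ∀ b ∈ zpowers (a : G), g * b * (g : G)⁻¹ = b⁻¹ := by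
    rintro _ ⟨k, rfl⟩
    simp only
    rw [← conj_zpow, e3, inv_zpow]
  have e6 : ∀ c ∈ zpowers (a : G), ∀ c' : G, g * c * (g * c') = c⁻¹ * z * c' := fun c hc c' => by
    rw [← ez, ← e2, ← e5 c hc]; group
  have zm : z ∈ zpowers (a : G) := ez ▸ pow_mem (mem_zpowers _) _
  refine ⟨a, a.2, ⟨g, g.2, fun k => ?_⟩, fun s hs hs' b hb => ?_, fun s hs hs' => ?_,
    fun s hs s' ht hs' ht' => ?_, _, pow_mem (mem_zpowers _) (2 ^ n), ?_⟩
  · rw [zp_comm k (mem_zpowers _), mul_inv_cancel_right, eq_inv_iff_mul_eq_one, ← pow_two,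
      ← orderOf_dvd_iff_pow_eq_one, o1, pow_succ] at e3
    have := Nat.le_of_dvd two_pos e3
    have := Nat.two_pow_pos n
    omega
  · obtain ⟨c, hc, rfl⟩ := e4 s hs hs'
    rw [← e5 b hb, mul_assoc _ c b, zp_comm hc hb]; group
  · obtain ⟨c, hc, rfl⟩ := e4 s hs hs'
    rw [e6 c hc, mul_assoc, zp_comm zm hc, inv_mul_cancel_left]
  · obtain ⟨c, hc, rfl⟩ := e4 s hs hs'
    obtain ⟨c', hc', rfl⟩ := e4 s' ht ht'
    rw [e6 c hc]
    exact mul_mem (mul_mem (inv_mem hc) zm) hc'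
  · rw [← pow_add, ← two_mul, ← pow_succ', ez]

theorem inv4 (h : Om z J) {u : G} (hu : u * u = z) : u⁻¹ = u * z :=
  inv_eq_of_mul_eq_one_right (by rw [← mul_assoc, hu, h.sq])

/-- every element of a Sylow subgroup is inverted -/
theorem flip (h : Om z J) (hQ : SylIn 2 Q J) {y : G} (hy : y ∈ Q) :
    ∃ k ∈ Q, k * k = z ∧ k * y * k⁻¹ = y⁻¹ := by
  obtain ⟨a, q⟩ := h.gq hQ
  by_cases ya : y ∈ zpowers a
  · obtain ⟨x, hx, hx'⟩ := q.ex
    exact ⟨x, hx, q.sq x hx hx', q.inv x hx hx' y ya⟩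
  · obtain ⟨i, hi, i2⟩ := q.four
    refine ⟨i, zpowers_le.2 q.ha hi, i2, ?_⟩
    have e := q.inv _ (inv_mem hy) (fun k => ya ((inv_mem_iff).1 k)) i hi
    rw [h.inv4 (q.sq y hy ya), ← inv_eq h.sq, ← i2]
    calc i * y * i⁻¹ = y * (y⁻¹ * i * y⁻¹⁻¹) * i⁻¹ := by group
      _ = _ := by rw [e]; group

theorem four (h : Om z J) (hQ : SylIn 2 Q J) : ∃ i ∈ Q, i * i = z := by
  obtain ⟨a, q⟩ := h.gq hQ
  obtain ⟨i, hi, i2⟩ := q.four
  exact ⟨i, zpowers_le.2 q.ha hi, i2⟩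

theorem sq4 (h : Om z J) (hQ : SylIn 2 Q J) {u j : G} (hu : u ∈ Q) (hj : j ∈ Q)
    (e : u * j * u⁻¹ = j * z) : j * j = z := by
  obtain ⟨a, q⟩ := h.gq hQ
  by_cases ja : j ∈ zpowers a
  · by_cases ua : u ∈ zpowers a
    · rw [conj_eq (zp_comm ua ja), left_eq_mul] at e
      exact absurd e h.ne
    · rw [q.inv u hu ua j ja, inv_eq_iff_mul_eq_one, ← mul_assoc, mul_eq_one_iff_eq_inv] at e
      rw [e, inv_eq h.sq]
  · exact q.sq j hj ja

/-- the centraliser of an element of order four -/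
theorem cent (h : Om z J) (hQ : SylIn 2 Q J) {u : G} (hu : u ∈ Q) (u2 : u * u = z) :
    (∃ b ∈ Q, b * b = u) ∨ ∀ c ∈ Q, c * u = u * c → c ∈ zpowers u := by
  obtain ⟨a, q⟩ := h.gq hQ
  have zu : z ∈ zpowers u := u2 ▸ mul_mem (mem_zpowers u) (mem_zpowers u)
  have n2 : u⁻¹ ≠ u := fun e => h.ne (u2.symm.trans (inv_eq_iff_mul_eq_one.1 e))
  by_cases ua : u ∈ zpowers a
  · obtain ⟨n, rfl⟩ := (mem_powers_iff_mem_zpowers.2 ua : ∃ n : ℕ, a ^ n = u)
    rcases Nat.even_or_odd' n with ⟨m, rfl | rfl⟩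
    · exact .inl ⟨a ^ m, pow_mem q.ha m, by rw [← pow_add, two_mul]⟩
    refine .inr fun c hc e => ?_
    have ca : c ∈ zpowers a := by
      by_contra k
      exact n2 (by rw [← q.inv c hc k _ ua, conj_eq e])
    obtain ⟨k, hk⟩ := two_of_mem hQ.isP q.ha
    refine zpowers_le.2 (mem_zpowers_pow_iff.2 ?_) ca
    exact Nat.Coprime.coprime_dvd_right (orderOf_dvd_of_pow_eq_one hk)
      ((odd_two_mul_add_one m).coprime_two_right.pow_right k)
  have key : ∀ c ∈ zpowers a, c * u = u * c → c ∈ zpowers u := fun c hc e => by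
    have k := q.inv u hu ua c hc
    rw [conj_eq e.symm, eq_inv_iff_mul_eq_one] at k
    rcases h.uq c (hQ.le (zpowers_le.2 q.ha hc)) k with rfl | rfl
    exacts [one_mem _, zu]
  refine .inr fun c hc e => ?_
  by_cases ca : c ∈ zpowers a
  · exact key c ca e
  · exact (mul_mem_cancel_left (mem_zpowers u)).1
      (key _ (q.mul u hu c hc ua ca) (by rw [mul_assoc, e]))

/-- all elements of order four are conjugate -/
theorem conj4 (h : Om z J) {u v : G} (hu : u ∈ J) (u2 : u * u = z) (hv : v ∈ J) (v2 : v * v = z) :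
    ∃ g ∈ J, g * u * g⁻¹ = v := by
  obtain ⟨Q, hQ, -⟩ := H42.exists_sylIn (p := 2) IsPGroup.of_bot (bot_le (a := J))
  obtain ⟨a, q⟩ := h.gq hQ
  obtain ⟨i, hi, i2⟩ := q.four
  obtain ⟨x, hx, hx'⟩ := q.ex
  have key : ∀ u ∈ J, u * u = z → ∃ g ∈ J, g * u * g⁻¹ = i := fun u hu u2 => by
    obtain ⟨g, hg⟩ := conj_into h.perf (S := Q.subgroupOf J) (A := (zpowers a).subgroupOf J) hQ.ndvd
      (fun s hs s' hs' => q.mul s hs s' hs') (z := ⟨z, h.mem⟩) (u := ⟨u, hu⟩)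
      (fun g => Subtype.ext (by
        change (g : G)⁻¹ * z * g = z
        rw [mul_assoc, ← h.cm g.2, inv_mul_cancel_left]))
      (show z ∈ zpowers a from i2 ▸ mul_mem hi hi) (Subtype.ext u2)
    have hg' : (g : G)⁻¹ * u * g ∈ zpowers a := hg
    have e : (g : G)⁻¹ * u * g * ((g : G)⁻¹ * u * g) = z := by
      rw [show (g : G)⁻¹ * u * g * ((g : G)⁻¹ * u * g) = (g : G)⁻¹ * (u * u) * g by group, u2,
        mul_assoc, ← h.cm g.2, inv_mul_cancel_left]
    rcases h.uq _ (hQ.le (zpowers_le.2 q.ha (mul_mem hg' hi))) (by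
      rw [(show Commute _ _ from zp_comm hi hg').mul_mul_mul_comm, i2, e, h.sq]) with k | k
    · refine ⟨x * (g : G)⁻¹, mul_mem (hQ.le hx) (inv_mem g.2), ?_⟩
      rw [← inv_inv i, ← q.inv x hx hx' _ (inv_mem hi), ← eq_inv_of_mul_eq_one_left k]; group
    · rw [← i2] at k
      exact ⟨(g : G)⁻¹, inv_mem g.2, by rw [inv_inv]; exact mul_right_cancel k⟩
  obtain ⟨g, hg, e⟩ := key u hu u2
  obtain ⟨g', hg', e'⟩ := key v hv v2
  exact ⟨g'⁻¹ * g, mul_mem (inv_mem hg') hg, by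
    rw [show g'⁻¹ * g * u * (g'⁻¹ * g)⁻¹ = g'⁻¹ * (g * u * g⁻¹) * g' by group, e, ← e']; group⟩

/-- a 2-element normalising `Q` fixes an element of order four modulo `z` -/
theorem fix (h : Om z J) (hQ : SylIn 2 Q J) (hR : IsPGroup 2 R) (hQR : Q ≤ R) {s : G} (hs : s ∈ R)
    (hn : s ∈ normalizer (Q : Set G)) :
    ∃ i ∈ Q, i * i = z ∧ (s * i * s⁻¹ = i ∨ s * i * s⁻¹ = i * z) := by
  have m2 : ∀ {x : G}, x ∈ zpowers z → x = 1 ∨ x = z := fun {x} hx =>
    h.uq x (zpowers_le.2 h.mem hx) (by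
      obtain ⟨k, rfl⟩ := hx
      simp only
      rw [← (Commute.refl z).mul_zpow, h.sq, one_zpow])
  obtain ⟨u, hu, u2⟩ := h.four hQ
  obtain ⟨v, hv, v1, v2⟩ := fixmod (Z := zpowers z) hR hQR hs hn hu fun k => by
    rcases m2 k with rfl | rfl
    exacts [h.ne (by rw [← u2, mul_one]), h.ne (by rw [← u2, h.sq])]
  obtain ⟨k, hk⟩ := two_of_mem hQ.isP hv
  have v3 : s * v * s⁻¹ = v ∨ s * v * s⁻¹ = v * z := by
    rcases m2 v2 with e | e
    · exact .inl (mul_inv_eq_one.1 e)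
    · exact .inr (by rw [h.cm (hQ.le hv), ← e, inv_mul_cancel_right])
  clear v2
  induction k generalizing v with
  | zero => exact absurd (by rw [pow_zero, pow_one] at hk; exact hk ▸ one_mem _) v1
  | succ k ih =>
    by_cases e : v * v ∈ zpowers z
    · rcases m2 e with e | e
      · rcases h.uq v (hQ.le hv) e with rfl | rfl
        exacts [absurd (one_mem _) v1, absurd (mem_zpowers _) v1]
      · exact ⟨v, hv, e, v3⟩
    · refine ih _ (mul_mem hv hv) e (by rw [← pow_two, ← pow_mul, ← pow_succ', hk]) (.inl ?_)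
      rw [← conj_mul]
      rcases v3 with e | e <;> rw [e]
      rw [mul_assoc, ← mul_assoc z, ← h.cm (hQ.le hv), mul_assoc v z, h.sq, mul_one]

end Om

end Cfsg.Agent.Q54
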