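import Cfsg.Agent.Q54.A

/-! Intrinsic 2-components with a unique involution: pairs of components, diagonals. -/

set_option autoImplicit false
set_option linter.unusedSectionVars false

namespace Cfsg.Agent.Q54

open Subgroup H44 H59
open H42 (SylIn)
open scoped commutatorElement

universe u

variable {G : Type u} [Group G] [Finite G] {z t e : G} {H I I' J J' K Q R R' : Subgroup G}

theorem comm_O (hR : IsPGroup 2 R) {a b : G} (ha : a ∈ R) (hb : b ∈ R) (h : ⁅a, b⁆ ∈ Oppof 2 H) :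
    a * b = b * a :=
  commutatorElement_eq_one_iff_mul_comm.1 (eq_one hR (by
    rw [commutatorElement_def]
    exact mul_mem (mul_mem (mul_mem ha hb) (inv_mem ha)) (inv_mem hb)) h)

theorem comm_ne (hI : PComp 2 H I) (hI' : PComp 2 H I') (hne : I ≠ I') (hR : IsPGroup 2 R) {a b : G}
    (ha : a ∈ R ⊓ I) (hb : b ∈ R ⊓ I') : a * b = b * a :=
  comm_O hR ha.1 hb.1 ((hI.eq_or_commutator_le hI').resolve_left hne
    (commutator_mem_commutator ha.2 hb.2))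

theorem comm_Dc (hR : IsPGroup 2 R) {a b : G} (ha : a ∈ R) (hD : a ∈ Dc 2 H I) (hb : b ∈ R ⊓ I) :
    a * b = b * a := comm_O hR ha hb.1 ((mem_Dc.1 hD).2 b hb.2)

theorem mem_Dc_of_ne (hI : PComp 2 H I) (hJ : PComp 2 H J) (hJ' : PComp 2 H J') (h1 : I ≠ J)
    (h2 : I ≠ J') {g : G} (hg : g ∈ J ⊔ J') : g ∈ Dc 2 H I :=
  sup_le (le_Dc_of_ne hI hJ h1.symm) (le_Dc_of_ne hI hJ' h2.symm) hg

theorem pc_syl (hI : PComp 2 H I) (hR : SylIn 2 R H) : SylIn 2 (R ⊓ I) I := by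
  have := (hR.inf_normal (Lof_le (p := 2) _) (le_normalizer_Lof _)).inf_normal hI.le_Lof
    hI.Lof_le_normalizer
  rwa [inf_assoc, inf_eq_right.2 hI.le_Lof] at this

theorem pc_norm (hI : PComp 2 H I) (hI' : PComp 2 H I') : I ≤ normalizer (I' : Set G) :=
  hI.le_Lof.trans hI'.Lof_le_normalizer

theorem prod (hI : PComp 2 H I) (hI' : PComp 2 H I') (hR : SylIn 2 R H) {g : G} (hg : g ∈ R)
    (hg' : g ∈ I ⊔ I') : ∃ a ∈ R ⊓ I, ∃ b ∈ R ⊓ I', g = a * b := by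
  have h := pc_syl hI hR
  have e := H70.inf_sup_eq_of_sylIn (pc_norm hI hI') hR.isP
    ⟨h.le, h.isP, fun Q h1 h2 h3 => h.eq_of_le h2 h1 h3⟩
  refine H42.exists_mul_of_mem_sup (fun a ha => ?_) (e ▸ ⟨hg, hg'⟩ : g ∈ (R ⊓ I) ⊔ (R ⊓ I'))
  exact inf_normalizer_le_normalizer_inf ⟨le_normalizer ha.1, pc_norm hI hI' ha.2⟩

theorem mem_of_sup {Y : Subgroup G} (hJ : PComp 2 (Y ⊓ C1 z) J) {x : G} (hx : x ∈ J ⊔ Oppof 2 Y)
    (xz : x ∈ C1 z) {k : ℕ} (x2 : x ^ 2 ^ k = 1) : x ∈ J := by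
  obtain ⟨j, hj, o, ho, rfl⟩ := H42.exists_mul_of_mem_sup
    ((hJ.le.trans inf_le_left).trans (le_normalizer_pPrimeCoreOf Y)) hx
  have h1 : j * o ∈ J ⊔ Oppof 2 (Y ⊓ C1 z) := mul_mem_sup hj
    (pPrimeCoreOf_inf_le_pPrimeCoreOf inf_le_left
      ⟨ho, Oppof_le Y ho, (mul_mem_cancel_left (mem_inf.1 (hJ.le hj)).2).1 xz⟩)
  rw [← hJ.pGen_sup_Oppof]
  exact le_pGen (zpowers_le.2 h1) (isP x2) (mem_zpowers _)

theorem mem_cj_norm {g x : G} (hg : g ∈ normalizer (J : Set G)) (hx : x ∈ J) : g * x * g⁻¹ ∈ J :=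
  (mem_normalizer_iff.1 hg x).1 hx

theorem cmem {g x : G} (hg : g ∈ R) (hx : x ∈ R) : g * x * g⁻¹ ∈ R :=
  mul_mem (mul_mem hg hx) (inv_mem hg)

theorem le_Lof (hz : z * z = 1) (hc : z * t = t * z) {D : Subgroup G} (hD : PComp 2 (C1 t ⊓ C1 z) D) :
    D ≤ Lof 2 (C1 t) := by
  refine H46.pcomp_inf_centralizer_le_Lof (isP2 hz) (zpowers_le.2 (le_normalizer (mem_C1.2 hc))) ?_
  rwa [centralizer_zpowers_eq]

/-- compatible Sylow subgroups of two commuting involutions -/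
structure Fr (z t : G) (R R' : Subgroup G) : Prop where
  l : SylIn 2 R (C1 z)
  r : SylIn 2 R' (C1 t)
  lr : ∀ x ∈ R, x * t = t * x → x ∈ R'
  rl : ∀ x ∈ R', x * z = z * x → x ∈ R

theorem Fr.symm (h : Fr z t R R') : Fr t z R' R := ⟨h.r, h.l, h.rl, h.lr⟩

theorem exists_fr {Y : Subgroup G} (hY : IsPGroup 2 Y) (h1 : Y ≤ C1 z) (h2 : Y ≤ C1 t) :
    ∃ R R', Fr z t R R' ∧ Y ≤ R ∧ Y ≤ R' := by
  obtain ⟨S, hS, l⟩ := H42.exists_sylIn hY (le_inf h1 h2)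
  obtain ⟨R, hR, l1⟩ := H42.exists_sylIn hS.isP (hS.le.trans inf_le_left)
  obtain ⟨R', hR', l2⟩ := H42.exists_sylIn hS.isP (hS.le.trans inf_le_right)
  have e1 := hS.eq_of_le (R := R ⊓ C1 t) hR.isP.to_inf_left (inf_le_inf_right _ hR.le)
    (le_inf l1 (hS.le.trans inf_le_right))
  have e2 := hS.eq_of_le (R := R' ⊓ C1 z) hR'.isP.to_inf_left
    (le_inf inf_le_right (inf_le_left.trans hR'.le)) (le_inf l2 (hS.le.trans inf_le_left))
  exact ⟨R, R', ⟨hR, hR', fun x hx e => l2 (e1 ▸ ⟨hx, mem_C1.2 e⟩),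
    fun x hx e => l1 (e2 ▸ ⟨hx, mem_C1.2 e⟩)⟩, l.trans l1, l.trans l2⟩

theorem mem_syl_C (hR : SylIn 2 R (C1 z)) (hz : z * z = 1) : z ∈ R := by
  have := hR.eq_of_le (R := zpowers z ⊔ R) ((isP2 hz).to_sup_of_normal_left' hR.isP
    (hR.le.trans (by rw [C1, ← centralizer_zpowers_eq]; exact centralizer_le_normalizer _)))
    (sup_le (zpowers_le.2 (mem_C1.2 rfl)) hR.le) le_sup_right
  exact this ▸ mem_sup_left (mem_zpowers z)

namespace Om

theorem inter (h : Om z J) (hJ' : PComp 2 (C1 z) J') (hne : J ≠ J') (hR : SylIn 2 R (C1 z)) {s : G}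
    (hs : s ∈ R ⊓ J) (hs' : s ∈ J') : s = 1 ∨ s = z := by
  obtain ⟨k, hk, -, e⟩ := h.flip (h.syl hR) hs
  rw [conj_eq (comm_ne h.pc hJ' hne hR.isP hk ⟨hs.1, hs'⟩), eq_inv_iff_mul_eq_one] at e
  exact h.uq s hs.2 e

theorem eq_of_mem (h : Om z J) (hJ' : PComp 2 (C1 z) J') {s : G} (hs : s ∈ J) (hs' : s ∈ J') {k : ℕ}
    (s2 : s ^ 2 ^ k = 1) (s1 : s * s ≠ 1) : J = J' := by
  by_contra hne
  obtain ⟨R, hR, l⟩ := H42.exists_sylIn (isP s2) (zpowers_le.2 (h.le hs))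
  rcases h.inter hJ' hne hR ⟨l (mem_zpowers s), hs⟩ hs' with rfl | rfl
  exacts [s1 (mul_one 1), s1 h.sq]

theorem pow4 (h : Om z J) {u : G} (u2 : u * u = z) : u ^ 2 ^ 2 = 1 := by
  rw [show 2 ^ 2 = 2 * 2 from rfl, pow_mul, pow_two, pow_two, u2, h.sq]

theorem eq_of_mem4 (h : Om z J) (hJ' : PComp 2 (C1 z) J') {s : G} (hs : s ∈ J) (hs' : s ∈ J')
    (s2 : s * s = z) : J = J' := h.eq_of_mem hJ' hs hs' (h.pow4 s2) (s2 ▸ h.ne)

theorem not_O (h : Om z J) : z ∉ Oppof 2 H := fun k =>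
  h.ne (eq_one (isP2 h.sq) (mem_zpowers z) k)

theorem not_Dc (h : Om z J) {j : G} (hj : j ∈ J) (e : t * j * t⁻¹ = j * z) : t ∉ Dc 2 H J := fun k => by
  have := (mem_Dc.1 k).2 j hj
  rw [commutatorElement_def, e, h.cm hj, mul_inv_cancel_right] at this
  exact h.not_O this

theorem cm_norm (h : Om z J) {g : G} (hg : g ∈ normalizer (J : Set G)) : g * z = z * g := by
  rcases h.uq _ (mem_cj_norm hg h.mem) (H42.conj_mul_self h.sq g) with e | e
  · exact absurd (by simpa using e) h.ne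
  · exact mul_inv_eq_iff_eq_mul.1 e

theorem ne_cj (_ : Om z J) {g : G} (hg : g ∉ normalizer (J : Set G)) : J ≠ cj g J :=
  fun e => hg (mem_normalizer_iff_cj.2 e.symm)

/-- the diagonal component -/
theorem diag (h : Om z J) (e2 : e * e = 1) (ez : e * z = z * e) (hn : e ∉ normalizer (J : Set G)) :
    ∃ D, PComp 2 (C1 z ⊓ C1 e) D ∧ D ≤ Lof 2 (C1 e) ∧
      (∀ a ∈ J, a * (e * a * e⁻¹) ∈ D ⊔ Oppof 2 (C1 z)) ∧
      ∀ R, SylIn 2 R (C1 z) → e ∈ R → ∀ a ∈ R ⊓ J, a * (e * a * e⁻¹) ∈ D := by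
  obtain ⟨D, h1, -, -, -, -, h2⟩ := exists_diag_rel h.pc (mem_C1.2 ez)
    (ord2 e2 (by rintro rfl; exact hn (one_mem _))) hn
  have h3 : ∀ a ∈ J, a * (e * a * e⁻¹) ∈ D ⊔ Oppof 2 (C1 z) := fun a ha => by
    have := h2 a ha
    rwa [pow_two, mul_assoc, ← mul_assoc e, show e * a * e = e * a * e⁻¹ by rw [inv_eq e2]] at this
  refine ⟨D, h1, le_Lof h.sq ez.symm (inf_comm (C1 z) _ ▸ h1), h3, fun R hR he a ha => ?_⟩
  obtain ⟨k, hk⟩ := two_of_mem hR.isP (mul_mem ha.1 (cmem he ha.1))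
  refine mem_of_sup h1 (h3 a ha.2) (mem_C1.2 ?_) hk
  have c := comm_ne h.pc (h.conj' ez).pc (h.ne_cj hn) hR.isP ha ⟨cmem he ha.1, conj_mem_cj ha.2⟩
  conv_rhs => rw [c]
  rw [inv_eq e2]
  calc a * (e * a * e) * e = a * e * a * (e * e) := by group
    _ = e * e * a * e * a := by rw [e2]; group
    _ = _ := by group

/-- an involution centralising a Sylow subgroup centralises `J` modulo the core -/
theorem zstar (h : Om z J) (hQ : SylIn 2 Q J) (t2 : t * t = 1) (hn : t ∈ normalizer (J : Set G))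
    (hc : ∀ q ∈ Q, q * t = t * q) : t ∈ Dc 2 (C1 z) J := by
  have tz := h.cm_norm hn
  have nc : ∀ g ∈ J, g * t * g⁻¹ ≠ t * z := fun g hg e => by
    have pw : ∀ m : ℕ, g ^ (2 * m + 1) * t * (g ^ (2 * m + 1))⁻¹ = t * z := fun m => by
      have : g * g * t = t * (g * g) := by
        rw [← mul_inv_eq_iff_eq_mul, show g * g * t * (g * g)⁻¹ = g * (g * t * g⁻¹) * g⁻¹ by group,
          e, ← conj_mul, e, conj_eq (h.cm hg), mul_assoc, h.sq, mul_one]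
      rw [pow_succ', pow_mul, pow_two, ← e, mul_assoc g,
        ((show Commute (g * g) t from this).pow_left m).eq]
      group
    obtain ⟨k, m, ⟨m, rfl⟩, hm⟩ := Nat.exists_eq_two_pow_mul_odd (orderOf_pos g).ne'
    have g2 : (g ^ (2 * m + 1)) ^ 2 ^ k = 1 := by rw [← pow_mul, mul_comm, ← hm, pow_orderOf_eq_one]
    have nV : ∀ n ∈ J, n * t * n⁻¹ ∈ zpowers z ⊔ zpowers t →
        n ∈ normalizer ((zpowers z ⊔ zpowers t : Subgroup G) : Set G) := fun n hn k =>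
      H42.mem_normalizer_of_conj_mem (H42.cj_le_iff.1 (by
        rw [H42.cj_sup]
        refine sup_le ?_ ?_ <;> rw [H42.cj, MonoidHom.map_zpowers, zpowers_le]
        · change n * z * n⁻¹ ∈ _
          rw [conj_eq (h.cm hn)]
          exact mem_sup_left (mem_zpowers z)
        · exact k))
    have hQ' : SylIn 2 Q (J ⊓ normalizer ((zpowers z ⊔ zpowers t : Subgroup G) : Set G)) :=
      hQ.of_le (fun q hq => ⟨hQ.le hq, nV q (hQ.le hq) (by
        rw [conj_eq (hc q hq)]; exact mem_sup_right (mem_zpowers t))⟩) inf_le_left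
    obtain ⟨n, hn', k⟩ := hQ'.exists_conj (isP g2) (zpowers_le.2 ⟨pow_mem hg _, nV _ (pow_mem hg _) (by
      rw [pw]; exact mul_mem (mem_sup_right (mem_zpowers t)) (mem_sup_left (mem_zpowers z)))⟩)
    have k1 := k _ (mem_zpowers _)
    have k2 : zpowers z ⊔ zpowers t ≤ C1 (n * g ^ (2 * m + 1) * n⁻¹) :=
      sup_le (zpowers_le.2 (mem_C1.2 (h.cm (hQ.le k1)).symm)) (zpowers_le.2 (mem_C1.2 (hc _ k1).symm))
    have k3 := mem_C1.1 (k2 (mem_cj_norm hn'.2 (mem_sup_right (mem_zpowers t))))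
    rw [conj_mul, conj_mul] at k3
    have k4 := pw m
    rw [← mul_left_cancel (mul_right_cancel k3), mul_inv_cancel_right, left_eq_mul] at k4
    exact h.ne k4
  have zs := H46.zs_of_odd t2 hn fun x hx => by
    have s2 := H42.conj_mul_self t2 x
    have cJ : t * (x * t * x⁻¹) ∈ J := by
      rw [show t * (x * t * x⁻¹) = t * x * t⁻¹ * (t * t) * x⁻¹ by group, t2, mul_one]
      exact mul_mem (mem_cj_norm hn hx) (inv_mem hx)
    by_contra ho
    obtain ⟨m, hm⟩ := Nat.not_odd_iff_even.1 ho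
    have h0 := orderOf_pos (t * (x * t * x⁻¹))
    obtain ⟨k1, k2, -⟩ := H42.half_pow_facts t2 s2 (m := m) (by omega) (by omega)
    have k3 := (h.uq _ (pow_mem cJ m) k2).resolve_left k1
    rcases Nat.even_or_odd' m with ⟨j, rfl | rfl⟩
    · exact nc _ (inv_mem (pow_mem cJ j)) (by rw [← H42.mul_pow_even_isConj t2 s2, k3])
    · refine nc _ (mul_mem (inv_mem (pow_mem cJ j)) hx) ?_
      rw [← k3, H42.mul_pow_odd_isConj t2 s2]; group
  exact mem_Dc.2 ⟨mem_C1.2 tz, fun a ha => (h.pc.Oppof_eq ▸ zs.comm a ha :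
    _ ∈ Oppof 2 (C1 z) ⊓ J).1⟩

end Om

end Cfsg.Agent.Q54
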