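import Cfsg.Agent.Q54.B

/-! Intrinsic 2-components with a unique involution: if `z(J)` normalises `K` then `z(K)`
normalises `J`. -/

set_option autoImplicit false
set_option linter.unusedSectionVars false

namespace Cfsg.Agent.Q54

open Subgroup H44 H59
open H42 (SylIn)
open scoped commutatorElement

universe u

variable {G : Type u} [Group G] [Finite G] {z t e : G} {J K Q R R' : Subgroup G}

theorem norm_inf_syl {s : G} (hs : s ∈ R) (hn : s ∈ normalizer (J : Set G)) :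
    s ∈ normalizer ((R ⊓ J : Subgroup G) : Set G) :=
  inf_normalizer_le_normalizer_inf ⟨le_normalizer hs, hn⟩

theorem Om.not_comm (h : Om z J) {i k : G} (i2 : i * i = z) (e : k * i * k⁻¹ = i⁻¹) :
    k * i ≠ i * k := fun c => by
  rw [conj_eq c, eq_inv_iff_mul_eq_one, i2] at e
  exact h.ne e

theorem part2 (hJ : Om z J) (hK : Om t K) (hn : z ∈ normalizer (K : Set G)) :
    t ∈ normalizer (J : Set G) := by
  have zt : z * t = t * z := hK.cm_norm hn
  by_contra hn'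
  have ne : t ≠ z := fun e => hn' (e ▸ le_normalizer hJ.mem)
  obtain ⟨R, R', fr, -, -⟩ := exists_fr (z := z) (t := t) IsPGroup.of_bot bot_le bot_le
  have zR := mem_syl_C fr.l hJ.sq
  have tR' := mem_syl_C fr.r hK.sq
  have zR' := fr.lr z zR zt
  have tR := fr.rl t tR' zt.symm
  obtain ⟨D, d1, d2, -, d3⟩ := hJ.diag hK.sq zt.symm hn'
  have hJ' := hJ.conj' zt.symm
  have nJ := hJ.ne_cj hn'
  obtain ⟨i, hi, i2⟩ := hJ.four (hJ.syl fr.l)
  obtain ⟨k, hk, -, ki⟩ := hJ.flip (hJ.syl fr.l) hi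
  have nk := hJ.not_comm i2 ki
  obtain ⟨i', hi'⟩ : ∃ i', i' = t * i * t⁻¹ := ⟨_, rfl⟩
  have m' : i' ∈ R ⊓ cj t J := hi' ▸ ⟨cmem tR hi.1, conj_mem_cj hi.2⟩
  have i2' : i' * i' = z := by rw [hi', conj_mul, i2, conj_eq zt.symm]
  have nJ' : i' ∉ J := fun k => nJ (hJ.eq_of_mem4 hJ'.pc k m'.2 i2')
  have c1 : Commute i i' := comm_ne hJ.pc hJ'.pc nJ fr.l.isP hi m'
  have c2 : Commute k i' := comm_ne hJ.pc hJ'.pc nJ fr.l.isP hk m'
  have iz : Commute i z := hJ.cm hi.2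
  have iz' : Commute i' z := hJ'.cm m'.2
  have wD : i * i' ∈ D := hi' ▸ d3 R fr.l tR i hi
  have wR : i * i' ∈ R := mul_mem hi.1 m'.1
  have w2 : i * i' * (i * i') = 1 := by rw [c1.symm.mul_mul_mul_comm, i2, i2', hJ.sq]
  have nw : k * (i * i') ≠ i * i' * k := fun e => nk (by
    rw [mul_assoc i, ← c2.eq, ← mul_assoc, ← mul_assoc] at e
    exact mul_right_cancel e)
  have hD : ⁅D, K⁆ ≤ Oppof 2 (C1 t) := by
    refine (le_or_commutator_le_rel hK.pc (mem_C1.2 zt) (ord2 hJ.sq hJ.ne) hn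
      (inf_comm (C1 z) _ ▸ d1) d2).resolve_left fun l => ?_
    rcases hK.uq _ (l wD) w2 with e | e
    · exact nJ' (eq_inv_of_mul_eq_one_right e ▸ inv_mem hi.2)
    · refine ne ?_
      rw [hi', ← mul_assoc, mul_inv_eq_iff_eq_mul, hK.sq] at e
      rw [← inv_eq hJ.sq, ← i2]
      calc t = i⁻¹ * (i * (t * i)) * i⁻¹ := by group
        _ = _ := by rw [e]; group
  have wt : i * i' * t = t * (i * i') := mem_C1.1 (d1.le wD).2
  obtain ⟨u, hu, u2, hz⟩ := hK.fix (hK.syl fr.r) fr.r.isP inf_le_left zR' (norm_inf_syl zR' hn)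
  have uw : i * i' * u = u * (i * i') :=
    comm_O fr.r.isP (fr.lr _ wR wt) hu.1 (hD (commutator_mem_commutator wD hu.2))
  have ut : u * t = t * u := hK.cm hu.2
  rcases hz with hz | hz
  · have uz : u * z = z * u := (mul_inv_eq_iff_eq_mul.1 hz).symm
    have uR := fr.rl u hu.1 uz
    have n1 : J ≠ cj u J := hJ.ne_cj fun k => hn' (u2 ▸ mul_mem k k)
    have n2 : J ≠ cj u (cj t J) := fun e => n1 (by
      rw [← cj_mul, ut, cj_mul, ← H42.cj_inj (g := t), H42.cj_cj t t, hK.sq, H42.cj_one, ← u2,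
        ← H42.cj_cj, H42.cj_inj] at e
      exact e.symm)
    have e1 := comm_ne hJ.pc (hJ.conj' uz).pc n1 fr.l.isP hk ⟨cmem uR hi.1, conj_mem_cj hi.2⟩
    have e2 := comm_ne hJ.pc (hJ'.conj' uz).pc n2 fr.l.isP hk ⟨cmem uR m'.1, conj_mem_cj m'.2⟩
    refine nw ?_
    rw [← conj_eq uw.symm, ← conj_mul]
    exact ((show Commute k _ from e1).mul_right e2).eq
  have e1 : u⁻¹ * z * u = t * z := by
    rw [mul_assoc, mul_inv_eq_iff_eq_mul.1 hz]; group
  have e2 : u * z * u⁻¹ = t * z := by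
    calc _ = u⁻¹ * (u * u * z * (u * u)⁻¹) * u := by group
      _ = _ := by rw [u2, conj_eq zt.symm, e1]
  have e3 : i * t * i⁻¹ = i * i' * z * t := by
    rw [mul_assoc i i', ← hJ'.inv4 i2', hi']; group
  have e4 : u * i * t * (u * i)⁻¹ = i * i' * z := by
    calc _ = u * (i * t * i⁻¹) * u⁻¹ := by group
      _ = u * (i * i') * u⁻¹ * (u * z * u⁻¹) * (u * t * u⁻¹) := by rw [e3]; group
      _ = _ := by
        rw [conj_eq uw.symm, e2, conj_eq ut, ← zt, mul_assoc, mul_assoc z, hK.sq, mul_one]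
  have e5 : z = u * i * (i * i' * t) * (u * i)⁻¹ := by
    rw [← conj_mul, e4]
    calc z = i * i' * (i * i') * z := by rw [w2, one_mul]
      _ = u * (i * i') * u⁻¹ * (i * i' * z) := by rw [conj_eq uw.symm]; group
      _ = u * (i * (i' * i) * i⁻¹) * u⁻¹ * (i * i' * z) := by group
      _ = _ := by rw [← c1.eq]; group
  have hK2 := hK.conj (u * i)
  have zD : z ∈ Dc 2 (C1 (u * i * t * (u * i)⁻¹)) (cj (u * i) K) := by
    rw [← cj_C1, ← map_Dc_inj _ (MulAut.conj (u * i)).injective, e5]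
    exact conj_mem_cj (mul_mem (le_Dc.2 ⟨d1.le.trans inf_le_right, hD⟩ wD)
      (mem_Dc_of_centralizer (mem_C1.2 rfl) fun a ha => hK.cm ha))
  rw [e4] at hK2 zD
  have wz : Commute (i * i' * z) z := (iz.mul_left iz').mul_left (Commute.refl z)
  obtain ⟨hL, -⟩ := pcomp_cov hK2.pc (isP2 hJ.sq) (zpowers_le.2 zD)
  have mL : i * i' * z ∈ cov 2 (cj (u * i) K) (zpowers z) :=
    le_pGen (zpowers_le.2 (mem_inf.2 ⟨hK2.mem, by rw [centralizer_zpowers_eq]; exact mem_C1.2 wz⟩))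
      (isP2 hK2.sq) (mem_zpowers _)
  rw [centralizer_zpowers_eq, inf_comm] at hL
  rcases le_or_commutator_le_rel hJ.pc (mem_C1.2 wz) (ord2 hK2.sq hK2.ne)
    (mul_mem (mul_mem (le_normalizer hi.2) (pc_norm hJ'.pc hJ.pc m'.2)) (le_normalizer hJ.mem))
    hL (le_Lof hK2.sq wz hL) with l | l
  · exact nJ' ((mul_mem_cancel_left (mem_inf.1 hi).2).1 ((mul_mem_cancel_right hJ.mem).1 (l mL)))
  · have := comm_O fr.l.isP (mul_mem wR zR) hk.1 (l (commutator_mem_commutator mL hk.2))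
    rw [mul_assoc, ← hJ.cm hk.2, ← mul_assoc, ← mul_assoc k] at this
    exact nw (mul_right_cancel this).symm

end Cfsg.Agent.Q54
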