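import Cfsg.Agent.Q54.C

/-! Intrinsic 2-components with a unique involution: an element of `K` interchanging two
conjugates of `J` has order four. -/

set_option autoImplicit false
set_option linter.unusedSectionVars false

namespace Cfsg.Agent.Q54

open Subgroup H44 H59
open H42 (SylIn)
open scoped commutatorElement

universe u

variable {G : Type u} [Group G] [Finite G] {z t y : G} {J K R R' : Subgroup G}

theorem Om.mem_zp (h : Om t K) {x : G} (hx : x ∈ K) (x1 : x ≠ 1) {k : ℕ} (x2 : x ^ 2 ^ k = 1) :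
    t ∈ zpowers x := by
  induction k generalizing x with
  | zero => exact absurd (by simpa using x2) x1
  | succ k ih =>
    by_cases e : x * x = 1
    · exact (h.uq x hx e).resolve_left x1 ▸ mem_zpowers x
    · exact zpowers_le.2 (mul_mem (mem_zpowers x) (mem_zpowers x))
        (ih (mul_mem hx hx) e (by rw [← pow_two, ← pow_mul, ← pow_succ', x2]))

theorem comm_zp {s t w : G} (h : t ∈ zpowers s) (e : w * s = s * w) : w * t = t * w := by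
  obtain ⟨k, rfl⟩ := h
  exact ((show Commute w s from e).zpow_right k).eq

/-- `y ∈ K` interchanges `J` and a conjugate -/
structure Cf (z t y : G) (J K R R' : Subgroup G) : Prop where
  oj : Om z J
  ok : Om t K
  ne : z ≠ t
  fr : Fr z t R R'
  zK : z ∈ normalizer (K : Set G)
  tJ : t ∈ normalizer (J : Set G)
  yP : y ∈ R' ⊓ K
  yR : y ∈ R
  yn : y ∉ normalizer (J : Set G)
  y2 : y * y ∈ normalizer (J : Set G)

namespace Cf

variable (h : Cf z t y J K R R')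
include h

theorem zt : z * t = t * z := h.ok.cm_norm h.zK
theorem yz : y * z = z * y := mem_C1.1 (h.fr.l.le h.yR)
theorem yt : y * t = t * y := h.ok.cm h.yP.2
theorem zR : z ∈ R := mem_syl_C h.fr.l h.oj.sq
theorem tR' : t ∈ R' := mem_syl_C h.fr.r h.ok.sq
theorem zR' : z ∈ R' := h.fr.lr z h.zR h.zt
theorem tR : t ∈ R := h.fr.rl t h.tR' h.zt.symm
theorem nzK : z ∉ K := fun k => (h.ok.uq z k h.oj.sq).elim h.oj.ne h.ne
theorem ntJ : t ∉ J := fun k => (h.oj.uq t k h.ok.sq).elim h.ok.ne h.ne.symm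
theorem oj' : Om z (cj y J) := h.oj.conj' h.yz
theorem nJ : J ≠ cj y J := h.oj.ne_cj h.yn

theorem yy : y * y ≠ 1 := fun e => by
  rcases h.ok.uq y h.yP.2 e with e | e
  · exact h.yn (e ▸ one_mem _)
  · exact h.yn (e ▸ h.tJ)

theorem tzp : t ∈ zpowers (y * y) := by
  obtain ⟨k, hk⟩ := two_of_mem h.fr.l.isP (mul_mem h.yR h.yR)
  exact h.ok.mem_zp (mul_mem h.yP.2 h.yP.2) h.yy hk

theorem cy {a : G} (ha : a ∈ R ⊓ J) : y * a * y⁻¹ ∈ R ⊓ cj y J := ⟨cmem h.yR ha.1, conj_mem_cj ha.2⟩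

theorem cm {a b : G} (ha : a ∈ R ⊓ J) (hb : b ∈ R ⊓ cj y J) : Commute a b :=
  comm_ne h.oj.pc h.oj'.pc h.nJ h.fr.l.isP ha hb

theorem sq' {i : G} (i2 : i * i = z) : y * i * y⁻¹ * (y * i * y⁻¹) = z := by
  rw [conj_mul, i2, conj_eq h.yz]

theorem nm' {i : G} (hi : i ∈ J) (i2 : i * i = z) : y * i * y⁻¹ ∉ J := fun k =>
  h.nJ (h.oj.eq_of_mem4 h.oj'.pc k (conj_mem_cj hi) (h.sq' i2))

theorem sq_of {g : G} (hg : g ∈ R') (hn : g ∉ normalizer (K : Set G)) (e : y * y ∈ cj g K) :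
    y * y = t :=
  (h.ok.inter (h.ok.conj' (mem_C1.1 (h.fr.r.le hg))).pc (h.ok.ne_cj hn) h.fr.r
    (mul_mem h.yP h.yP) e).resolve_left h.yy

theorem key {g : G} (hg : g ∈ R') (e : g * y * g⁻¹ = z * y) :
    g ∉ normalizer (K : Set G) ∧ y * y = t := by
  have n : g ∉ normalizer (K : Set G) := fun k =>
    h.nzK ((mul_mem_cancel_right (mem_inf.1 h.yP).2).1 (e ▸ mem_cj_norm k h.yP.2))
  refine ⟨n, h.sq_of hg n ?_⟩
  have := conj_mem_cj (g := g) (mul_mem (mem_inf.1 h.yP).2 (mem_inf.1 h.yP).2)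
  rwa [← conj_mul, e, mul_assoc, ← mul_assoc y, h.yz, ← mul_assoc, ← mul_assoc, h.oj.sq, one_mul]
    at this

theorem cK {i : G} (hi : i ∈ R ⊓ J) (i2 : i * i = z) (hn : i ∈ normalizer (K : Set G)) :
    i * (y * i * y⁻¹)⁻¹ = t := by
  have m : i * (y * i * y⁻¹)⁻¹ ∈ K := by
    rw [show i * (y * i * y⁻¹)⁻¹ = i * y * i⁻¹ * y⁻¹ by group]
    exact mul_mem (mem_cj_norm hn h.yP.2) (inv_mem (mem_inf.1 h.yP).2)
  refine (h.ok.uq _ m ?_).resolve_left fun e => h.nm' hi.2 i2 (mul_inv_eq_one.1 e ▸ hi.2)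
  rw [(h.cm hi (h.cy hi)).inv_right.symm.mul_mul_mul_comm, ← mul_inv_rev, i2, h.sq' i2,
    mul_inv_cancel]

theorem step1 : y * y = t := by
  obtain ⟨i, hi, i2, e⟩ := h.oj.fix (h.oj.syl h.fr.l) h.fr.l.isP inf_le_left (mul_mem h.yR h.yR)
    (norm_inf_syl (mul_mem h.yR h.yR) h.y2)
  have hi' := h.cy hi
  have c1 := h.cm hi hi'
  have cz : ∀ {a}, a ∈ R → a * z = z * a := fun ha => mem_C1.1 (h.fr.l.le ha)
  rcases e with e | e
  swap
  · have wR := mul_mem hi.1 hi'.1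
    have e1 : y * (i * (y * i * y⁻¹)) * y⁻¹ = i * (y * i * y⁻¹) * z := by
      rw [c1.eq, mul_assoc _ i z, ← e, ← c1.eq]; group
    have e2 : i * (y * i * y⁻¹) * (y * y) = y * y * (i * (y * i * y⁻¹)) := by
      rw [eq_comm, ← mul_inv_eq_iff_eq_mul, show y * y * (i * (y * i * y⁻¹)) * (y * y)⁻¹ =
        y * (y * (i * (y * i * y⁻¹)) * y⁻¹) * y⁻¹ by group, e1, ← conj_mul, e1, conj_eq h.yz,
        mul_assoc, h.oj.sq, mul_one]
    refine (h.key (inv_mem (h.fr.lr _ wR (comm_zp h.tzp e2))) ?_).2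
    rw [inv_inv, mul_assoc, mul_inv_eq_iff_eq_mul.1 e1]; group
  have it : i * t = t * i := comm_zp h.tzp (mul_inv_eq_iff_eq_mul.1 e).symm
  have iR' := h.fr.lr i hi.1 it
  by_cases n : i ∈ normalizer (K : Set G)
  swap
  · refine h.sq_of iR' n ?_
    rw [← conj_eq (mul_inv_eq_iff_eq_mul.1 e).symm]
    exact conj_mem_cj (mul_mem (mem_inf.1 h.yP).2 (mem_inf.1 h.yP).2)
  have et := h.cK hi i2 n
  obtain ⟨j, hj, -, ji⟩ := h.oj.flip (h.oj.syl h.fr.l) hi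
  have hj' := h.cy hj
  have ji' : y * j * y⁻¹ * (y * i * y⁻¹)⁻¹ * (y * j * y⁻¹)⁻¹ = y * i * y⁻¹ := by
    calc _ = y * (j * i * j⁻¹)⁻¹ * y⁻¹ := by group
      _ = _ := by rw [ji, inv_inv]
  generalize hi0 : y * i * y⁻¹ = i' at *
  have xt : j * (y * j * y⁻¹) * t = t * (j * (y * j * y⁻¹)) := by
    rw [← mul_inv_eq_iff_eq_mul]
    calc _ = j * (y * j * y⁻¹ * i * (y * j * y⁻¹)⁻¹ *
          (y * j * y⁻¹ * i'⁻¹ * (y * j * y⁻¹)⁻¹)) * j⁻¹ := by rw [← et]; group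
      _ = _ := by
        rw [ji', conj_eq (h.cm hi hj').symm.eq, ← conj_mul, ji, conj_eq (h.cm hj hi').eq,
          c1.inv_left.eq, ← inv_eq h.ok.sq, ← et]; group
  have xR' := h.fr.lr _ (mul_mem hj.1 hj'.1) xt
  have hs : y * y * j * (y * y)⁻¹ ∈ R ⊓ J :=
    mem_cj_norm (norm_inf_syl (mul_mem h.yR h.yR) h.y2) hj
  have hc : j * (y * y * j * (y * y)⁻¹)⁻¹ ∈ R ⊓ J := mul_mem hj (inv_mem hs)
  have ex : j * (y * j * y⁻¹) * y * (j * (y * j * y⁻¹))⁻¹ =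
      j * (y * y * j * (y * y)⁻¹)⁻¹ * y := by
    rw [← conj_eq (h.cm (inv_mem hs) hj').symm.eq]; group
  have c1' : j * (y * y * j * (y * y)⁻¹)⁻¹ ≠ 1 := fun k => by
    have k1 := comm_zp h.tzp (mul_inv_eq_iff_eq_mul.1 (mul_inv_eq_one.1 k).symm).symm
    rw [← et, mul_assoc, ← (h.cm hj hi').inv_right.eq, ← mul_assoc, ← mul_assoc] at k1
    exact h.oj.not_comm i2 ji (mul_right_cancel k1)
  generalize j * (y * y * j * (y * y)⁻¹)⁻¹ = c at *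
  by_cases nx : j * (y * j * y⁻¹) ∈ normalizer (K : Set G)
  · have cK : c ∈ K := (mul_mem_cancel_right (mem_inf.1 h.yP).2).1 (ex ▸ mem_cj_norm nx h.yP.2)
    obtain ⟨k, hk⟩ := two_of_mem h.fr.l.isP hc.1
    exact absurd (zpowers_le.2 hc.2 (h.ok.mem_zp cK c1' hk)) h.ntJ
  have k := comm_ne h.ok.pc (h.ok.conj' xt).pc (h.ok.ne_cj nx) h.fr.r.isP h.yP
    ⟨cmem xR' h.yP.1, conj_mem_cj h.yP.2⟩
  rw [ex, ← mul_assoc] at k
  have k2 := (h.oj.inter h.oj'.pc h.nJ h.fr.l hc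
    (conj_eq (mul_right_cancel k) ▸ conj_mem_cj hc.2)).resolve_left c1'
  exact (h.key xR' (k2 ▸ ex)).2

theorem step2 : ∃ j ∈ R ⊓ J, t * j * t⁻¹ = j * z := by
  by_cases hc : R ⊓ J ≤ C1 t
  swap
  · obtain ⟨u, hu, hu'⟩ := SetLike.not_le_iff_exists.1 hc
    obtain ⟨v, hv, v1, v2⟩ := fixmod h.fr.l.isP inf_le_left h.tR (norm_inf_syl h.tR h.tJ) hu hu'
    refine ⟨v, hv, ?_⟩
    rcases h.oj.uq _ (mul_mem (mem_cj_norm h.tJ hv.2) (inv_mem (mem_inf.1 hv).2)) (by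
      rw [mul_eq_one_iff_eq_inv]
      calc _ = t * (t * v * t⁻¹ * v⁻¹) * t⁻¹ := (conj_eq (mem_C1.1 v2).symm).symm
        _ = t * t * v * t * (t * t)⁻¹ * v⁻¹ * t⁻¹ := by group
        _ = _ := by rw [h.ok.sq]; group) with e | e
    · exact absurd (mem_C1.2 (mul_inv_eq_iff_eq_mul.1 (mul_inv_eq_one.1 e)).symm) v1
    · rw [h.oj.cm hv.2, ← e, inv_mul_cancel_right]
  exfalso
  have hD := h.oj.zstar (h.oj.syl h.fr.l) h.ok.sq h.tJ fun q hq => mem_C1.1 (hc hq)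
  obtain ⟨hL, -⟩ := pcomp_cov h.oj.pc (isP2 h.ok.sq) (zpowers_le.2 hD)
  have nK : ∀ a ∈ R ⊓ J, a ∈ normalizer (K : Set G) := fun a ha => by
    obtain ⟨k, hk⟩ := two_of_mem h.fr.l.isP ha.1
    refine h.ok.pc.Lof_le_normalizer (le_Lof h.oj.sq h.zt (by
      rw [centralizer_zpowers_eq, inf_comm] at hL; exact hL) ?_)
    exact le_pGen (zpowers_le.2 (mem_inf.2 ⟨ha.2, by rw [centralizer_zpowers_eq]; exact hc ha⟩))
      (isP hk) (mem_zpowers _)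
  obtain ⟨i, hi, i2⟩ := h.oj.four (h.oj.syl h.fr.l)
  obtain ⟨j, hj, j2, ji⟩ := h.oj.flip (h.oj.syl h.fr.l) hi
  have e := (h.cK hi i2 (nK i hi)).trans (h.cK hj j2 (nK j hj)).symm
  have e2 : j⁻¹ * i = (y * j * y⁻¹)⁻¹ * (y * i * y⁻¹) := by
    rw [mul_inv_eq_iff_eq_mul] at e
    conv_lhs => rw [e]
    group
  refine h.oj.not_comm i2 ji ?_
  rcases h.oj.inter h.oj'.pc h.nJ h.fr.l (mul_mem (inv_mem hj) hi)
    (e2 ▸ mul_mem (inv_mem (conj_mem_cj hj.2)) (conj_mem_cj hi.2)) with k | k <;>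
    rw [inv_mul_eq_iff_eq_mul] at k <;> rw [k]
  · rw [mul_one]
  · rw [mul_assoc, h.oj.cm hj.2]

end Cf

end Cfsg.Agent.Q54
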