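import Cfsg.Agent.Q54.D

/-! Intrinsic 2-components with a unique involution: tools for the last step. -/

set_option autoImplicit false
set_option linter.unusedSectionVars false

namespace Cfsg.Agent.Q54

open Subgroup H44 H59
open H42 (SylIn)
open scoped commutatorElement

universe u

variable {G : Type u} [Group G] [Finite G] {z t y e : G} {H I I' J K N N' R R' : Subgroup G}

theorem cyc (hJ : Om z J) (hK : Om t K) (hR : SylIn 2 R' (C1 t)) (hy : y ∈ R' ⊓ K) (y2 : y * y = t)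
    (yz : y * z = z * y) (yn : y ∉ normalizer (J : Set G))
    (hz : ∀ a ∈ R' ⊓ K, a * y = y * a → a * z = z * a) (ht : t ∈ J ⊔ cj y J) {j : G} (hj : j ∈ J)
    (e : t * j * t⁻¹ = j * z) : ∀ c ∈ R' ⊓ K, c * y = y * c → c ∈ zpowers y := by
  refine (hK.cent (hK.syl hR) hy y2).resolve_left ?_
  rintro ⟨b, hb, rfl⟩
  have bz := hz b hb (mul_assoc _ _ _).symm
  have n1 : cj b J ≠ J := fun k => yn (mul_mem (mem_normalizer_iff_cj.2 k) (mem_normalizer_iff_cj.2 k))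
  refine (hJ.conj' bz).not_Dc (conj_mem_cj hj) ?_
    (mem_Dc_of_ne (hJ.conj' bz).pc hJ.pc (hJ.conj' yz).pc n1 (fun k => n1 ?_) ht)
  · rw [← conj_eq (hK.cm hb.2), ← conj_eq bz, conj_inv, conj_mul, conj_mul, conj_mul, e]
  · rw [cj_mul, H42.cj_inj] at k
    exact k.symm

theorem swap (hK : Om t K) (hR : SylIn 2 R' (C1 t)) (hy : y ∈ R' ⊓ K)
    (hc : ∀ c ∈ R' ⊓ K, c * y = y * c → c ∈ zpowers y) {x k k2 : G} (hx : x ∈ R') (x2 : x * x = 1)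
    (xn : x ∉ normalizer (K : Set G)) (e : x * y * x⁻¹ = z * y) (zy : Commute z y) (hk : k ∈ R' ⊓ K)
    (ky : k * y * k⁻¹ = y⁻¹) (hk2 : k2 ∈ R' ⊓ cj x K) (ky2 : k2 * (z * y) * k2⁻¹ = (z * y)⁻¹) :
    ∃ m : ℤ, x * k * x⁻¹ = (z * y) ^ m * k2 ∧ x * (k * k2) * x⁻¹ = z ^ m * (k * k2) := by
  have m3 : x⁻¹ * k2 * x ∈ R' ⊓ K :=
    mem_inf.2 ⟨mul_mem (mul_mem (inv_mem hx) (mem_inf.1 hk2).1) hx, mem_cj.1 hk2.2⟩
  have e3 : (x⁻¹ * k2 * x)⁻¹ * y⁻¹ * (x⁻¹ * k2 * x) = y := by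
    calc _ = x⁻¹ * k2⁻¹ * (x * y * x⁻¹)⁻¹ * k2 * x := by group
      _ = x⁻¹ * (x * y * x⁻¹) * x := by rw [e, ← ky2]; group
      _ = _ := by group
  obtain ⟨m, hm⟩ := hc _ (mul_mem hk (inv_mem m3)) (by
    calc k * (x⁻¹ * k2 * x)⁻¹ * y
        = k * ((x⁻¹ * k2 * x)⁻¹ * y⁻¹ * (x⁻¹ * k2 * x))⁻¹ * (x⁻¹ * k2 * x)⁻¹ := by group
      _ = (k * y * k⁻¹)⁻¹ * (k * (x⁻¹ * k2 * x)⁻¹) := by rw [e3]; group
      _ = _ := by rw [ky, inv_inv])
  simp only at hm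
  have c : ∀ a ∈ R' ⊓ K, Commute a k2 := fun a ha =>
    comm_ne hK.pc (hK.conj' (mem_C1.1 (hR.le hx))).pc (hK.ne_cj xn) hR.isP ha hk2
  have e1 : x * k * x⁻¹ = (z * y) ^ m * k2 := by rw [← e, conj_zpow, hm]; group
  refine ⟨m, e1, ?_⟩
  have e2 : x * k2 * x⁻¹ = (y ^ m)⁻¹ * k := by
    rw [hm, ← inv_eq x2, inv_inv, inv_eq x2]; group
  rw [← conj_mul, e1, e2, zy.mul_zpow, mul_assoc, mul_assoc, ← mul_assoc k2,
    ← ((c y hy).zpow_left m).inv_left.eq, (c k hk).eq]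
  group

theorem rank (hN : Om e N) (hN' : Om e N') (hne : N ≠ N') {Y : Subgroup G} (hY : IsPGroup 2 Y)
    (hY' : Y ≤ C1 e) {p q r : G} (hp : p ∈ Y ⊓ (N ⊔ N')) (hq : q ∈ Y ⊓ (N ⊔ N'))
    (hr : r ∈ Y ⊓ (N ⊔ N'))
    (hs : ∀ g ∈ [p, q, r, p * q, p * r, q * r, p * q * r], g * g = 1 ∧ g ≠ 1 ∧ g ≠ e)
    (pq : Commute p q) : False := by
  obtain ⟨S, hS, l⟩ := H42.exists_sylIn hY hY'
  obtain ⟨a0, gq⟩ := hN.gq (hN.syl hS)
  have c : ∀ {a b}, a ∈ S ⊓ N → b ∈ S ⊓ N' → Commute a b := fun ha hb =>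
    comm_ne hN.pc hN'.pc hne hS.isP ha hb
  have za : ∀ {a}, a ∈ zpowers a0 → a ∈ S ⊓ N := fun ha => zpowers_le.2 gq.ha ha
  let In : G → Prop := fun g => ∃ a ∈ zpowers a0, ∃ b ∈ S ⊓ N', g = a * b
  have one : ∀ a ∈ zpowers a0, ∀ b ∈ S ⊓ N', a * b * (a * b) = 1 ∧ a * b ≠ 1 ∧ a * b ≠ e →
      a * a = e := fun a ha b hb ⟨k1, k2, k3⟩ => by
    rw [(c (za ha) hb).symm.mul_mul_mul_comm] at k1
    refine (hN.inter hN'.pc hne hS (mul_mem (za ha) (za ha)) (by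
      rw [eq_inv_of_mul_eq_one_left k1]
      exact inv_mem (mul_mem (mem_inf.1 hb).2 (mem_inf.1 hb).2))).resolve_left fun k => ?_
    rw [k, one_mul] at k1
    rcases hN.uq a (za ha).2 k with rfl | rfl <;> rcases hN'.uq b hb.2 k1 with rfl | rfl
    exacts [k2 (mul_one 1), k3 (one_mul _), k3 (mul_one _), k2 hN.sq]
  have two : ∀ g g', In g → In g' → (g * g = 1 ∧ g ≠ 1 ∧ g ≠ e) → (g' * g' = 1 ∧ g' ≠ 1 ∧ g' ≠ e) →
      (g * g' * (g * g') = 1 ∧ g * g' ≠ 1 ∧ g * g' ≠ e) → False := by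
    rintro _ _ ⟨a, ha, b, hb, rfl⟩ ⟨a', ha', b', hb', rfl⟩ k1 k2 k3
    rw [(c (za ha') hb).symm.mul_mul_mul_comm] at k3
    have := one _ (mul_mem ha ha') _ (mul_mem hb hb') k3
    rw [(show Commute a' a from zp_comm ha' ha).mul_mul_mul_comm, one a ha b hb k1,
      one a' ha' b' hb' k2, hN.sq] at this
    exact hN.ne this.symm
  have mul : ∀ g ∈ Y ⊓ (N ⊔ N'), ∀ g' ∈ Y ⊓ (N ⊔ N'), ¬ In g → ¬ In g' → In (g * g') :=
    fun g hg g' hg' n n' => by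
      obtain ⟨a, ha, b, hb, rfl⟩ := prod hN.pc hN'.pc hS (l hg.1) hg.2
      obtain ⟨a', ha', b', hb', rfl⟩ := prod hN.pc hN'.pc hS (l hg'.1) hg'.2
      exact ⟨_, gq.mul a ha a' ha' (fun k => n ⟨a, k, b, hb, rfl⟩) fun k => n' ⟨a', k, b', hb', rfl⟩,
        _, mul_mem hb hb', (c ha' hb).symm.mul_mul_mul_comm _ _⟩
  simp only [List.mem_cons, List.not_mem_nil, or_false, forall_eq_or_imp, forall_eq] at hs
  obtain ⟨s1, s2, s3, s4, s5, s6, s7⟩ := hs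
  by_cases i1 : In p <;> by_cases i2 : In q <;> by_cases i3 : In r
  · exact two _ _ i1 i2 s1 s2 s4
  · exact two _ _ i1 i2 s1 s2 s4
  · exact two _ _ i1 i3 s1 s3 s5
  · exact two _ _ i1 (mul q hq r hr i2 i3) s1 s6 (mul_assoc p q r ▸ s7)
  · exact two _ _ i2 i3 s2 s3 s6
  · exact two _ _ i2 (mul p hp r hr i1 i3) s2 s5 (by rwa [← mul_assoc q, ← pq.eq])
  · exact two _ _ (mul p hp q hq i1 i2) i3 s4 s3 s7
  · refine two _ _ (mul p hp q hq i1 i2) (mul q hq r hr i2 i3) s4 s6 ?_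
    rwa [mul_assoc p, ← mul_assoc q, s2.1, one_mul]

theorem O_conj {g o : G} (hg : g ∈ H) (ho : o ∈ Oppof 2 H) : g * o * g⁻¹ ∈ Oppof 2 H :=
  mem_cj_norm (le_normalizer_pPrimeCoreOf H hg) ho

theorem conj_mod (hI : PComp 2 H I) (hI' : PComp 2 H I') (hne : I ≠ I') {a b g g' : G} (ha : a ∈ I)
    (hg : g ∈ I) (hb : b ∈ I') (hg' : g' ∈ I') :
    g * g' * (a * b) * (g * g')⁻¹ * (g * a * g⁻¹ * (g' * b * g'⁻¹))⁻¹ ∈ Oppof 2 H := by
  have c := (hI.eq_or_commutator_le hI').resolve_left hne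
  have h1 := inv_mem (c (commutator_mem_commutator ha hg'))
  have h2 := c (commutator_mem_commutator hg (cmem hg' hb))
  have := mul_mem (O_conj (hI.le hg) h1) (O_conj (hI.le (cmem hg ha)) h2)
  simp only [commutatorElement_def] at this
  convert this using 1
  group

theorem conj_odd {s v : G} (s2 : s * s = 1) (v2 : v * v = 1) (h : s * v⁻¹ ∈ Oppof 2 H) :
    ∃ n : ℕ, (v * s) ^ n * s * ((v * s) ^ n)⁻¹ = v :=
  H42.exists_pow_conj_of_odd s2 v2 (by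
    have := odd_of_mem (inv_mem h)
    rwa [mul_inv_rev, inv_inv, inv_eq s2] at this)

theorem Om.nz (h : Om z J) (ez : e * z = z * e) (hn : e ∉ normalizer (J : Set G)) {p c : G}
    (hp : p ∈ J) (p2 : p * p = z) (hc : c ∈ J) : c * (e * p * e⁻¹) ≠ 1 := fun k =>
  h.ne_cj hn (h.eq_of_mem4 (h.conj' ez).pc (eq_inv_of_mul_eq_one_right k ▸ inv_mem hc)
    (conj_mem_cj hp) (by rw [conj_mul, p2, conj_eq ez]))

/-- the diagonal involutions are conjugate in the diagonal component -/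
theorem Om.conj_D (h : Om z J) (e2 : e * e = 1) (ez : e * z = z * e)
    (hn : e ∉ normalizer (J : Set G)) (hR : SylIn 2 R (C1 z)) (he : e ∈ R) {u j : G} (hu : u ∈ R ⊓ J)
    (u2 : u * u = z) (hj : j ∈ R ⊓ J) (j2 : j * j = z) : ∃ d ∈ Lof 2 (C1 e), d * z = z * d ∧
      d * (u * (e * u * e⁻¹)) * d⁻¹ = j * (e * j * e⁻¹) := by
  obtain ⟨D, d1, d2, d3, d4⟩ := h.diag e2 ez hn
  have h' := h.conj' ez
  obtain ⟨g, hg, e1⟩ := h.conj4 hu.2 u2 hj.2 j2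
  have DH : D ≤ C1 z := d1.le.trans inf_le_left
  obtain ⟨d, hd, o, ho, e3⟩ := H42.exists_mul_of_mem_sup
    (DH.trans (le_normalizer_pPrimeCoreOf _)) (d3 g hg)
  have k := conj_mod h.pc h'.pc (h.ne_cj hn) hu.2 hg (conj_mem_cj hu.2) (conj_mem_cj hg)
  have sq : ∀ p ∈ R ⊓ J, p * p = z → p * (e * p * e⁻¹) * (p * (e * p * e⁻¹)) = 1 := fun p hp p2 => by
    rw [(show Commute p _ from comm_ne h.pc h'.pc (h.ne_cj hn) hR.isP hp
      ⟨cmem he hp.1, conj_mem_cj hp.2⟩).symm.mul_mul_mul_comm, conj_mul, p2, conj_eq ez, h.sq]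
  rw [e1, show e * g * e⁻¹ * (e * u * e⁻¹) * (e * g * e⁻¹)⁻¹ = e * (g * u * g⁻¹) * e⁻¹ by group, e1,
    e3] at k
  have tD := d4 R hR he u hu
  have vD := d4 R hR he j hj
  have s1 := sq u hu u2
  have s2 := sq j hj j2
  generalize u * (e * u * e⁻¹) = t at *
  generalize j * (e * j * e⁻¹) = v at *
  have k2 := mul_mem (inv_mem (O_conj (DH hd) (mul_mem ho (O_conj (DH tD) (inv_mem ho))))) k
  obtain ⟨n, hn⟩ := conj_odd (H42.conj_mul_self s1 d) s2 (H := C1 z) (by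
    convert k2 using 1
    group)
  have m := mul_mem (pow_mem (mul_mem vD (cmem hd tD)) n) hd
  exact ⟨_, d2 m, mem_C1.1 (DH m), by
    conv_rhs => rw [← hn]
    group⟩

end Cfsg.Agent.Q54
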