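import Cfsg.Agent.Q54.E

/-! Intrinsic 2-components with a unique involution: elements of `K` centralising `z(J)`
normalise `J`. -/

set_option autoImplicit false
set_option linter.unusedSectionVars false

namespace Cfsg.Agent.Q54

open Subgroup H44 H59
open H42 (SylIn)
open scoped commutatorElement

universe u

variable {G : Type u} [Group G] [Finite G] {z t y e : G} {J K K' R R' : Subgroup G}

/-- the final contradiction: an elementary abelian group of order 16 in a central product -/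
theorem last (hJ : Om z J) (hK : Om t K) (hK' : Om t K') (hne : K ≠ K') (nzt : z ≠ t)
    (hR : SylIn 2 R (C1 z)) (zK : z ∈ K ⊔ K') {g u j : G} (gt : g * t * g⁻¹ = e)
    (gz : g * z * g⁻¹ = z * t) (he : e ∈ R) (en : e ∉ normalizer (J : Set G)) (hu : u ∈ R ⊓ J)
    (u2 : u * u = z) (hj : j ∈ R ⊓ J) (j2 : j * j = z) (ju : j * u * j⁻¹ = u⁻¹)
    (et : t = u * (e * u * e⁻¹)) : False := by
  have hN := hK.conj g
  have hN' := hK'.conj g
  rw [gt] at hN hN'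
  have ez : e * z = z * e := mem_C1.1 (hR.le he)
  have hJ' := hJ.conj' ez
  have c : ∀ {a b}, a ∈ R ⊓ J → b ∈ R ⊓ J → Commute a (e * b * e⁻¹) := fun ha hb =>
    comm_ne hJ.pc hJ'.pc (hJ.ne_cj en) hR.isP ha ⟨cmem he hb.1, conj_mem_cj hb.2⟩
  have uj2 : u * j * (u * j) = z := by
    calc _ = u * (j * u * j⁻¹) * (j * j) := by group
      _ = _ := by rw [ju, j2]; group
  have etv : t * (j * (e * j * e⁻¹)) = u * j * (e * (u * j) * e⁻¹) := by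
    rw [et, (c hj hu).symm.mul_mul_mul_comm, conj_mul]
  have m0 : z * t ∈ cj g K ⊔ cj g K' := by
    rw [← gz, ← H42.cj_sup]; exact conj_mem_cj zK
  have nL : ∀ d ∈ Lof 2 (C1 e), d * z = z * d → z * (d * t * d⁻¹) ∈ cj g K ⊔ cj g K' :=
    fun d hd dz => by
      have := mem_cj_norm (normalizer_inf_normalizer_le_normalizer_sup _ _
        ⟨hN.pc.Lof_le_normalizer hd, hN'.pc.Lof_le_normalizer hd⟩) m0
      rwa [← conj_mul, conj_eq dz] at this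
  obtain ⟨d1, h1, z1, e1⟩ := hJ.conj_D hN.sq ez en hR he hu u2 hj j2
  obtain ⟨d2, h2, z2, e2⟩ := hJ.conj_D hN.sq ez en hR he hu u2 (mul_mem hu hj) uj2
  have m1 := nL d1 h1 z1
  have m2 := nL d2 h2 z2
  rw [← et] at e1 e2
  rw [e1] at m1
  rw [e2, ← etv, ← mul_assoc] at m2
  have mv := (mul_mem_cancel_left m0).1 m2
  have mz := (mul_mem_cancel_right mv).1 m1
  have mt := (mul_mem_cancel_left mz).1 m0
  have dg : ∀ p ∈ R ⊓ J, p * p = z → p * (e * p * e⁻¹) ∈ R ⊓ C1 e ∧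
      (p * (e * p * e⁻¹) * (p * (e * p * e⁻¹)) = 1 ∧ p * (e * p * e⁻¹) ≠ 1 ∧ p * (e * p * e⁻¹) ≠ e) ∧
      z * (p * (e * p * e⁻¹)) * (z * (p * (e * p * e⁻¹))) = 1 ∧ z * (p * (e * p * e⁻¹)) ≠ 1 ∧
        z * (p * (e * p * e⁻¹)) ≠ e := fun p hp p2 => by
    have k0 := mul_mem hp.1 (cmem he hp.1)
    have k1 : p * (e * p * e⁻¹) * (p * (e * p * e⁻¹)) = 1 := by
      rw [(c hp hp).symm.mul_mul_mul_comm, conj_mul, p2, conj_eq ez, hJ.sq]
    have k2 : p * (e * p * e⁻¹) ∈ normalizer (J : Set G) :=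
      mul_mem (le_normalizer hp.2) (pc_norm hJ'.pc hJ.pc (conj_mem_cj hp.2))
    refine ⟨mem_inf.2 ⟨k0, mem_C1.2 ?_⟩, ⟨k1, hJ.nz ez en hp.2 p2 hp.2, fun k => en (k ▸ k2)⟩, ?_, ?_,
      fun k => en (k ▸ mul_mem (le_normalizer hJ.mem) k2)⟩
    · conv_rhs => rw [(c hp hp).eq]
      calc _ = p * e * p := by group
        _ = e * e * p * e⁻¹ * p := by rw [hN.sq, inv_eq hN.sq, one_mul]
        _ = _ := by group
    · rw [(show Commute _ z from mem_C1.1 (hR.le k0)).mul_mul_mul_comm, hJ.sq, k1, mul_one]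
    · rw [← mul_assoc]
      exact hJ.nz ez en hp.2 p2 (mul_mem hJ.mem hp.2)
  obtain ⟨a1, a2, a3⟩ := dg u hu u2
  obtain ⟨b1, b2, b3⟩ := dg j hj j2
  obtain ⟨-, c2, c3⟩ := dg _ (mul_mem hu hj) uj2
  rw [← et] at a1 a2 a3
  rw [← etv] at c2 c3
  rw [← mul_assoc z t] at c3
  refine rank hN hN' (fun k => hne (H42.cj_inj.1 k)) (Y := R ⊓ C1 e) hR.isP.to_inf_left inf_le_right
    (mem_inf.2 ⟨mem_inf.2 ⟨mem_syl_C hR hJ.sq, mem_C1.2 ez.symm⟩, mz⟩) (mem_inf.2 ⟨a1, mt⟩)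
    (mem_inf.2 ⟨b1, mv⟩) ?_ (mem_C1.1 (hR.le a1.1)).symm
  simp only [List.mem_cons, List.not_mem_nil, or_false, forall_eq_or_imp, forall_eq]
  exact ⟨⟨hJ.sq, hJ.ne, fun k => en (k ▸ le_normalizer hJ.mem)⟩, a2, b2, a3, b3, c2, c3⟩

namespace Cf

variable (h : Cf z t y J K R R')
include h

theorem tJJ {j k : G} (hj : j ∈ J) (tj : t * j * t⁻¹ = j * z) (hK' : Om t K') (hne : K ≠ K')
    (zK : z ∈ K ⊔ K') (kt : k * t = t * k) (kz : k * z * k⁻¹ = z * t) : t ∈ J ⊔ cj y J := by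
  have jt : j * t * j⁻¹ = z * t := by
    calc _ = j * (t * j * t⁻¹)⁻¹ * t := by group
      _ = j * z⁻¹ * j⁻¹ * t := by rw [tj]; group
      _ = _ := by rw [inv_eq h.oj.sq, conj_eq (h.oj.cm hj)]
  have e1 : j * k * z * (j * k)⁻¹ = t := by
    calc _ = j * (k * z * k⁻¹) * j⁻¹ := by group
      _ = _ := by rw [kz, ← conj_mul, jt, conj_eq (h.oj.cm hj), ← mul_assoc, h.oj.sq, one_mul]
  have e2 : j * k * t * (j * k)⁻¹ = z * t := by
    rw [← jt, mul_assoc j k, kt]; group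
  have m : z * t ∈ K ⊔ K' := mul_mem zK (mem_sup_left h.ok.mem)
  have img : ∀ I, Om z I → ∀ a ∈ I, t * a * t⁻¹ = a * z → cj (j * k) I = K ∨ cj (j * k) I = K' :=
    fun I hI a ha e => by
      have hI' := hI.conj (j * k)
      by_contra hc
      rw [not_or] at hc
      refine hI'.not_Dc (conj_mem_cj ha) ?_ (show z * t ∈ Dc 2 (C1 t) _ from
        mem_Dc_of_ne (e1 ▸ hI'.pc) h.ok.pc hK'.pc hc.1 hc.2 m)
      rw [← e2, conj_inv, conj_mul, conj_mul, conj_mul, e]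
  have tj' : t * (y * j * y⁻¹) * t⁻¹ = y * j * y⁻¹ * z := by
    rw [← conj_eq h.yt, ← conj_eq h.yz, conj_inv, conj_mul, conj_mul, conj_mul, tj]
  have nn : cj (j * k) J ≠ cj (j * k) (cj y J) := fun k => h.nJ (H42.cj_inj.1 k)
  rw [← H42.conj_mem_cj_iff (g := j * k), H42.cj_sup, e2]
  change z * t ∈ cj (j * k) J ⊔ cj (j * k) (cj y J)
  rcases img J h.oj j hj tj with a | a <;> rcases img _ h.oj' _ (conj_mem_cj hj) tj' with b | b
  · exact absurd (a.trans b.symm) nn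
  · rw [a, b]; exact m
  · rw [a, b, sup_comm]; exact m
  · exact absurd (a.trans b.symm) nn

theorem false : False := by
  have y2 := h.step1
  obtain ⟨j, hj, tj⟩ := h.step2
  have hj' := h.cy hj
  have cz : ∀ {a}, a ∈ R → Commute a z := fun ha => mem_C1.1 (h.fr.l.le ha)
  have ct : ∀ {a}, a ∈ R' → Commute a t := fun ha => mem_C1.1 (h.fr.r.le ha)
  have zy : Commute z y := h.yz.symm
  obtain ⟨x, hx⟩ : ∃ x, x = j * (y * j * y⁻¹) := ⟨_, rfl⟩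
  have xR : x ∈ R := hx ▸ mul_mem hj.1 hj'.1
  have yx : y * x * y⁻¹ = x * z := by
    rw [hx, (h.cm hj hj').eq, mul_assoc _ j z, ← tj, ← y2, ← (h.cm hj hj').eq]; group
  have xt : x * t = t * x := by
    rw [eq_comm, ← mul_inv_eq_iff_eq_mul, ← y2, show y * y * x * (y * y)⁻¹ =
      y * (y * x * y⁻¹) * y⁻¹ by group, yx, ← conj_mul, yx, conj_eq h.yz, mul_assoc, h.oj.sq, mul_one]
  have xR' := h.fr.lr x xR xt
  have xy : x * y * x⁻¹ = z * y := by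
    calc _ = x * (y * x * y⁻¹)⁻¹ * y := by group
      _ = x * z⁻¹ * x⁻¹ * y := by rw [yx]; group
      _ = _ := by rw [inv_eq h.oj.sq, conj_eq (cz xR).eq]
  have xn := (h.key xR' xy).1
  have hK' := h.ok.conj' xt
  have nK := h.ok.ne_cj xn
  have hY : z * y ∈ R' ⊓ cj x K := xy ▸ ⟨cmem xR' h.yP.1, conj_mem_cj h.yP.2⟩
  have cK : ∀ {a b}, a ∈ R' ⊓ K → b ∈ R' ⊓ cj x K → Commute a b := fun ha hb =>
    comm_ne h.ok.pc hK'.pc nK h.fr.r.isP ha hb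
  obtain ⟨k, hk, k2, ky⟩ := h.ok.flip (h.ok.syl h.fr.r) h.yP
  have kz : k * z * k⁻¹ = z * t := by
    calc _ = k * (z * y) * k⁻¹ * (k * y * k⁻¹)⁻¹ := by group
      _ = _ := by rw [conj_eq (cK hk hY).eq, ky, ← y2]; group
  have zK : z ∈ K ⊔ cj x K := by
    have := mul_mem (mem_sup_right (S := K) hY.2) (mem_sup_left (inv_mem (mem_inf.1 h.yP).2))
    rwa [mul_inv_cancel_right] at this
  have tJ := h.tJJ hj.2 tj hK' nK zK (ct hk.1) kz
  obtain ⟨u, hu, b, hb, et⟩ := prod h.oj.pc h.oj'.pc h.fr.l h.tR tJ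
  have hu' := h.cy hu
  have uj : u * j * u⁻¹ = j * z := by
    rw [← tj, et, mul_assoc u b j, ← (h.cm hj hb).eq]; group
  have j2 := h.oj.sq4 (h.oj.syl h.fr.l) hu hj uj
  have ju : j * u * j⁻¹ = u * z := by
    calc _ = j * (u * j * u⁻¹)⁻¹ * u := by group
      _ = j * z⁻¹ * j⁻¹ * u := by rw [uj]; group
      _ = _ := by rw [inv_eq h.oj.sq, conj_eq (cz hj.1).eq, (cz hu.1).eq]
  have u2 := h.oj.sq4 (h.oj.syl h.fr.l) hj hu ju
  rw [← h.oj.inv4 u2] at ju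
  have u2' := h.sq' u2
  have cyK := cyc h.oj h.ok h.fr.r h.yP y2 h.yz h.yn (fun a ha e => by
    have := (cK ha hY).mul_right (show Commute a y from e).inv_right
    rwa [mul_inv_cancel_right] at this) tJ hj.2 tj
  have ut : u * t = t * u := by rw [et, mul_assoc u b u, (h.cm hu hb).eq]
  have uR' := h.fr.lr u hu.1 ut
  have hb1 : y * b * y⁻¹ ∈ R ⊓ J := mem_inf.2 ⟨cmem h.yR hb.1, by
    have := conj_mem_cj (g := y) hb.2
    rwa [← cj_mul, mem_normalizer_iff_cj.1 h.y2] at this⟩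
  have eb : u⁻¹ * (y * b * y⁻¹) = b * (y * u * y⁻¹)⁻¹ := by
    have := conj_eq h.yt
    rw [et, ← conj_mul, ← (h.cm hb1 hu').eq] at this
    rw [← mul_inv_cancel_right (y * b * y⁻¹) (y * u * y⁻¹), this]; group
  have zk : z * k * z⁻¹ = k * t := by
    rw [(ct hk.1).eq, inv_eq h.oj.sq, mul_assoc, mul_inv_eq_iff_eq_mul.1 kz, ← mul_assoc, ← mul_assoc,
      h.oj.sq, one_mul]
  rcases h.oj.inter h.oj'.pc h.nJ h.fr.l (mul_mem (inv_mem hu) hb1)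
    (eb ▸ mul_mem (mem_inf.1 hb).2 (inv_mem (mem_inf.1 hu').2)) with e | e
  swap
  · rw [eb, mul_inv_eq_iff_eq_mul, ← (cz hu'.1).eq, ← h.oj'.inv4 u2'] at e
    have uy : u * y * u⁻¹ = y⁻¹ := by
      rw [h.ok.inv4 y2, h.yt, et, e]; group
    have un : u ∈ normalizer (K : Set G) := mem_normalizer_iff_cj.2
      (h.ok.eq_of_mem4 (h.ok.conj' ut).pc (inv_mem (mem_inf.1 h.yP).2) (uy ▸ conj_mem_cj h.yP.2)
        (by rw [← mul_inv_rev, y2, inv_eq h.ok.sq])).symm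
    have uy' : u⁻¹ * y⁻¹ * u = y := by rw [← uy]; group
    obtain ⟨m, hm⟩ := cyK _ (mul_mem (mem_cj_norm (norm_inf_syl uR' un) hk) (inv_mem hk)) (by
      have ky' : k⁻¹ * y * k = y⁻¹ := by
        calc _ = k⁻¹ * (k * y * k⁻¹)⁻¹ * k := by rw [ky, inv_inv]
          _ = _ := by group
      calc u * k * u⁻¹ * k⁻¹ * y = u * k * (u⁻¹ * (k⁻¹ * y * k) * u) * u⁻¹ * k⁻¹ := by group
        _ = (u * (k * y * k⁻¹)⁻¹ * u⁻¹)⁻¹ * (u * k * u⁻¹ * k⁻¹) := by rw [ky', uy']; group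
        _ = _ := by rw [ky, inv_inv, uy, inv_inv])
    simp only at hm
    have e1 : u * k * u⁻¹ = y ^ m * k := by rw [hm]; group
    have e2 : z * k * z⁻¹ = k := by
      rw [← u2, show u * u * k * (u * u)⁻¹ = u * (u * k * u⁻¹) * u⁻¹ by group, e1, ← conj_mul, e1,
        ← conj_zpow, uy]
      group
    rw [zk, mul_eq_left] at e2
    exact h.ok.ne e2
  rw [eb, mul_inv_eq_one] at e
  subst e
  have Y2 : z * y * (z * y) = t := by rw [zy.symm.mul_mul_mul_comm, h.oj.sq, y2, one_mul]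
  have uy : u * y * u⁻¹ = (z * y)⁻¹ := by
    rw [hK'.inv4 Y2, (ct hY.1).eq, ← mul_assoc, et, mul_assoc u _ z, ← h.oj'.inv4 u2']; group
  have un : u ∉ normalizer (K : Set G) := fun n => h.nzK ((mul_mem_cancel_right
    (mem_inf.1 h.yP).2).1 ((inv_mem_iff).1 (uy ▸ mem_cj_norm n h.yP.2)))
  have eK : cj x K = cj u K := hK'.eq_of_mem4 (h.ok.conj' ut).pc (inv_mem (mem_inf.1 hY).2)
    (uy ▸ conj_mem_cj h.yP.2) (by rw [← mul_inv_rev, Y2, inv_eq h.ok.sq])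
  have hk2 : u * k * u⁻¹ ∈ R' ⊓ cj x K := ⟨cmem uR' hk.1, eK ▸ conj_mem_cj hk.2⟩
  have k22 : u * k * u⁻¹ * (u * k * u⁻¹) = t := by rw [conj_mul, k2, conj_eq ut]
  have x2 : x * x = 1 := by
    rw [hx, (h.cm hj hj').symm.mul_mul_mul_comm, j2, h.sq' j2, h.oj.sq]
  obtain ⟨m, s1, s2⟩ := swap h.ok h.fr.r h.yP cyK xR' x2 xn xy zy hk ky hk2 (by
    rw [← inv_inv (z * y), ← uy, conj_inv, conj_inv, conj_inv, conj_mul, conj_mul, ← conj_inv, ky])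
  obtain ⟨b, hb0⟩ : ∃ b, b = k * (u * k * u⁻¹) := ⟨_, rfl⟩
  have bR' : b ∈ R' := hb0 ▸ mul_mem hk.1 hk2.1
  have kzt : k * (z * t) * k⁻¹ = z := by
    rw [← conj_mul, kz, conj_eq (ct hk.1).eq, mul_assoc, h.ok.sq, mul_one]
  have uzt : u * (z * t) * u⁻¹ = z * t := conj_eq ((cz hu.1).mul_right ut).eq
  have bz : b * z = z * b := by
    rw [← mul_inv_eq_iff_eq_mul, hb0]
    calc _ = k * (u * (k * (u⁻¹ * z * u) * k⁻¹) * u⁻¹) * k⁻¹ := by group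
      _ = _ := by
        rw [mul_assoc u⁻¹, ← (cz hu.1).eq, inv_mul_cancel_left, kz, uzt, kzt]
  have bR := h.fr.rl b bR' bz
  have b2 : b * b = 1 := by rw [hb0, (cK hk hk2).symm.mul_mul_mul_comm, k2, k22, h.ok.sq]
  have ub : u * b * u⁻¹ = b * t := by
    rw [hb0, (cK hk hk2).eq, mul_assoc _ k t, ← zk, ← u2, ← (cK hk hk2).eq]; group
  have bu : b * u * b⁻¹ = t * u := by
    calc _ = b * (u * b * u⁻¹)⁻¹ * u := by group
      _ = b * t⁻¹ * b⁻¹ * u := by rw [ub]; group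
      _ = _ := by rw [inv_eq h.ok.sq, conj_eq (ct bR').eq]
  have tu : t * u = (y * u * y⁻¹)⁻¹ := by
    rw [← ut, et, ← mul_assoc, u2, h.oj'.inv4 u2', (cz hu'.1).eq]
  have bn : b ∉ normalizer (J : Set G) := fun n =>
    h.nm' hu.2 u2 ((inv_mem_iff).1 (tu ▸ bu ▸ mem_cj_norm n hu.2))
  have eJ : cj y J = cj b J := h.oj'.eq_of_mem4 (h.oj.conj' bz).pc (inv_mem (mem_inf.1 hu').2)
    (tu ▸ bu ▸ conj_mem_cj hu.2) (by rw [← mul_inv_rev, u2', inv_eq h.oj.sq])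
  have cyJ := cyc h.ok h.oj h.fr.l hu u2 ut un (fun a ha e => by
    rw [et]; exact ((show Commute a u from e).mul_right (h.cm ha hu')).eq) (eK ▸ zK) hk.2 zk
  obtain ⟨n, -, s3⟩ := swap h.oj h.fr.l hu cyJ bR b2 bn bu ut.symm hj ju (eJ ▸ hj') (by
    rw [tu, conj_inv, conj_inv, conj_inv, conj_mul, conj_mul, ← conj_inv, ju])
  rw [← hb0] at s2
  rw [← hx] at s3
  have zm : z ^ m ∈ K := by
    rw [← mul_inv_eq_iff_eq_mul] at s2 s3
    rw [← s2, show x * b * x⁻¹ * b⁻¹ = (b * x * b⁻¹ * x⁻¹)⁻¹ by group, s3]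
    exact inv_mem (zpow_mem h.ok.mem n)
  obtain ⟨m, rfl | rfl⟩ := Int.even_or_odd' m
  swap
  · rw [zpow_add, zpow_mul, zpow_two, h.oj.sq, one_zpow, one_mul, zpow_one] at zm
    exact h.nzK zm
  rw [zpow_mul, zpow_two, Y2] at s1
  have xu : x * u * x⁻¹ = u⁻¹ := by
    rw [← ju, hx, mul_assoc j _ u, ← (h.cm hu hj').eq]; group
  have eu : k * x * k⁻¹ * u * (k * x * k⁻¹)⁻¹ = y * u * y⁻¹ := by
    have c1 : Commute (t ^ m)⁻¹ u⁻¹ := ((show Commute u t from ut).symm.zpow_left m).inv_inv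
    calc _ = k * (x * k * x⁻¹)⁻¹ * (x * u * x⁻¹) * (k * (x * k * x⁻¹)⁻¹)⁻¹ := by group
      _ = k * (u * k * u⁻¹)⁻¹ * ((t ^ m)⁻¹ * u⁻¹ * (t ^ m)⁻¹⁻¹) * (k * (u * k * u⁻¹)⁻¹)⁻¹ := by
        rw [s1, xu]; group
      _ = b * (t * u * t⁻¹)⁻¹ * b⁻¹ := by rw [conj_eq c1.eq, hK'.inv4 k22, hb0]; group
      _ = _ := by rw [conj_eq ut.symm, ← conj_inv, bu, tu, inv_inv]
  have ez : k * x * k⁻¹ * z = z * (k * x * k⁻¹) := by
    rw [← kzt, conj_mul, conj_mul, ((cz xR).mul_right (ct xR')).eq]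
  obtain ⟨g1, hg1, e1⟩ := h.oj.conj4 hu.2 u2 hj.2 j2
  obtain ⟨g2, hg2, e2⟩ := h.oj'.conj4 hu'.2 u2' hj'.2 (h.sq' j2)
  have cm := conj_mod h.oj.pc h.oj'.pc h.nJ hu.2 hg1 hu'.2 hg2
  rw [e1, e2, ← et, ← hx] at cm
  obtain ⟨r, hr⟩ := conj_odd (H42.conj_mul_self h.ok.sq _) x2 cm
  have gC : g1 * g2 ∈ C1 z := mul_mem (h.oj.le hg1) (h.oj'.le hg2)
  have hC := mem_C1.1 (mul_mem (pow_mem (mul_mem (h.fr.l.le xR) (cmem gC (h.fr.l.le h.tR))) r) gC)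
  refine last h.oj h.ok hK' nK h.ne h.fr.l zK (g := k * ((x * (g1 * g2 * t * (g1 * g2)⁻¹)) ^ r * (g1 * g2)))
    (e := k * x * k⁻¹) ?_ ?_ (h.fr.rl _ (cmem hk.1 xR') ez)
    (fun n => h.nm' hu.2 u2 (eu ▸ mem_cj_norm n hu.2)) hu u2 hj j2 ju (by rw [eu]; exact et)
  · conv_rhs => rw [← hr]
    group
  · rw [← kz, mul_assoc k, hC]; group

end Cf

end Cfsg.Agent.Q54
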